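import Cfsg.Agent.Omega.TV.LiftOf

/-!
# The core lemma for `#17245` (3), (4), (5) (helper653 #17867, paper text helper610 #17245)

`C` acts by conjugation on the elementary abelian group `N`, fixes `o ∈ N`, and `C / C_C(N)` has no normal
2-subgroup (`RedG C N`).  `b ∈ C` is not trivial on `N` and `[N, b] ≤ ⟨o, a⟩`, `a ∉ ⟨o⟩`.

`RedG.core`: there is `g ∈ C` such that

* `b` does not centralise `a^g`, and does not commute with `b^g`;
* for every `x ∈ N` fixed by `b`, `g` fixes `x` or `x a`;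
* if `Z ∋ o` is normalised by `g` and `a ∉ Z`, then `g` centralises `C_Z(b) ∩ N`.

(`b` acts on `N/⟨o⟩` as a transvection `(a, φ)`, there is `c ∈ C` acting as a transvection `(u, ψ)`, `u ∈ a^C`,
`φ(u) = ψ(a) = 1`, and `g = c c^b`.)
-/

set_option autoImplicit false

namespace Cfsg.Agent.Omega.IId.Red

open Module Cfsg.Agent.Omega.TV

section lin

variable {H : Type*} [Group H] {V : Type*} [AddCommGroup V] [Module (ZMod 2) V]
  {ρ : H →* (V ≃ₗ[ZMod 2] V)}

/-- TV (1)(b): adjacency of conjugate centres is symmetric (no spanning hypothesis). -/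
theorem adj_symm [Finite V] {r s : V} (htr : ∃ g, ρ g r = s) (ha : Adj ρ r s) : Adj ρ s r := by
  have : Finite (Dual (ZMod 2) V) := Finite.of_injective (fun f : Dual (ZMod 2) V => (f : V → ZMod 2))
    DFunLike.coe_injective
  obtain ⟨φ, hφ, h1⟩ := ha
  by_contra hcon
  have h0 : ∀ ψ, Fn ρ s ψ → ψ r = 0 := fun ψ hψ => z2_ne_one fun e => hcon ⟨ψ, hψ, e⟩
  have hsub : {ψ | Fn ρ s ψ} ⊆ {ψ | Fn ρ r ψ} := by
    intro ψ hψ
    have e1 := Fn.cc (show Fn ρ s ψ from hψ) hφ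
    rw [h1, one_smul, h0 ψ hψ, zero_smul, add_zero] at e1
    have e2 := e1.addc (show Fn ρ s ψ from hψ)
    rwa [add_comm s r, add_add_self] at e2
  have hcard : {ψ | Fn ρ r ψ}.ncard ≤ {ψ | Fn ρ s ψ}.ncard := by
    obtain ⟨g, hg⟩ := htr
    refine Set.ncard_le_ncard_of_injOn
      (fun ψ => ψ ∘ₗ (ρ g⁻¹ : V ≃ₗ[ZMod 2] V).toLinearMap) ?_ ?_ (Set.toFinite _)
    · intro ψ hψ
      exact hg ▸ Fn.conj (show Fn ρ r ψ from hψ) g
    · intro ψ _ ψ' _ he
      ext x
      have := LinearMap.congr_fun he (ρ g x)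
      simpa [rinv] using this
  have heq := Set.eq_of_subset_of_ncard_le hsub hcard (Set.toFinite _)
  have : φ ∈ {ψ | Fn ρ s ψ} := by rw [heq]; exact hφ
  have h2 : φ s = 0 := (show Fn ρ s φ from this).1
  rw [h1] at h2
  exact one_ne_zero h2

/-- `O₂` of the image of `H` is trivial. -/
def RedL (ρ : H →* (V ≃ₗ[ZMod 2] V)) : Prop :=
  ∀ K : Subgroup H, K.Normal → (∀ k ∈ K, ∃ m : ℕ, ∀ v, ρ (k ^ 2 ^ m) v = v) → ∀ k ∈ K, ∀ v, ρ k v = v

/-- The elements trivial on `U` and on `V / U`. -/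
def stab (ρ : H →* (V ≃ₗ[ZMod 2] V)) (U : Submodule (ZMod 2) V) : Subgroup H where
  carrier := {k | (∀ u ∈ U, ρ k u = u) ∧ ∀ v, ρ k v + v ∈ U}
  one_mem' := ⟨fun u _ => rone ρ u, fun v => by rw [rone, v_add_self]; exact U.zero_mem⟩
  mul_mem' := by
    rintro a b ⟨h1, h2⟩ ⟨h3, h4⟩
    refine ⟨fun u hu => by rw [rmul, h3 u hu, h1 u hu], fun v => ?_⟩
    have e1 : ρ a (ρ b v + v) = ρ b v + v := h1 _ (h4 v)
    rw [map_add] at e1
    have e3 : ρ a (ρ b v) = ρ b v + v + ρ a v := by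
      rw [← e1, add_add_self]
    rw [rmul, e3]
    have e2 : ρ b v + v + ρ a v + v = (ρ b v + v) + (ρ a v + v) := by abel
    rw [e2]
    exact U.add_mem (h4 v) (h2 v)
  inv_mem' := by
    rintro a ⟨h1, h2⟩
    have h3 : ∀ u ∈ U, ρ a⁻¹ u = u := fun u hu => by
      conv_lhs => rw [← h1 u hu]
      rw [rinv]
    refine ⟨h3, fun v => ?_⟩
    have e1 := h3 _ (h2 v)
    rw [map_add, rinv] at e1
    rw [add_comm, e1]
    exact h2 v

theorem RedL.chain (hR : RedL ρ) {U : Submodule (ZMod 2) V} (hU : ∀ (g : H), ∀ u ∈ U, ρ g u ∈ U) {g : H}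
    (h1 : ∀ u ∈ U, ρ g u = u) (h2 : ∀ v, ρ g v + v ∈ U) (v : V) : ρ g v = v := by
  refine hR (stab ρ U) ⟨?_⟩ ?_ g ⟨h1, h2⟩ v
  · rintro k ⟨h3, h4⟩ x
    refine ⟨fun u hu => ?_, fun v => ?_⟩
    · rw [rmul, rmul, h3 _ (hU x⁻¹ u hu), rinv']
    · rw [rmul, rmul]
      have e : ρ x (ρ k (ρ x⁻¹ v)) + v = ρ x (ρ k (ρ x⁻¹ v) + ρ x⁻¹ v) := by
        rw [map_add, rinv']
      rw [e]
      exact hU x _ (h4 _)
  · rintro k ⟨h3, h4⟩
    refine ⟨1, fun v => ?_⟩
    rw [pow_one, pow_two, rmul]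
    have e1 := h3 _ (h4 v)
    rw [map_add] at e1
    calc ρ k (ρ k v) = ρ k (ρ k v) + ρ k v + ρ k v := (add_add_self _ _).symm
      _ = ρ k v + v + ρ k v := by rw [e1]
      _ = v + ρ k v + ρ k v := by rw [add_comm (ρ k v) v]
      _ = v := add_add_self _ _

/-- The two transvections. -/
theorem RedL.exists_cu [Finite V] (hR : RedL ρ) {a : V} (ha : a ≠ 0) {b : H} {φ : Dual (ZMod 2) V}
    (hb : ∀ x, ρ b x = x + φ x • a) (hφ : φ ≠ 0) (hφa : φ a = 0) :
    ∃ (u : V) (c : H) (ψ : Dual (ZMod 2) V), φ u = 1 ∧ ψ u = 0 ∧ ψ a = 1 ∧ ∀ x, ρ c x = x + ψ x • u := by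
  have hex : ∃ g : H, φ (ρ g a) = 1 := by
    by_contra hcon
    push Not at hcon
    let U : Submodule (ZMod 2) V := Submodule.span (ZMod 2) {x | ∃ g, ρ g a = x}
    have haU : a ∈ U := Submodule.subset_span ⟨1, rone ρ a⟩
    have hU0 : ∀ x ∈ U, φ x = 0 := by
      intro x hx
      induction hx using Submodule.span_induction with
      | mem x hx =>
        obtain ⟨g, rfl⟩ := hx
        exact z2_ne_one (hcon g)
      | zero => exact map_zero φ
      | add x y _ _ hx hy => rw [map_add, hx, hy, add_zero]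
      | smul c x _ hx => rw [map_smul, hx, smul_zero]
    have hUi : ∀ (g : H), ∀ u ∈ U, ρ g u ∈ U := by
      intro g u hu
      induction hu using Submodule.span_induction with
      | mem x hx =>
        obtain ⟨g', rfl⟩ := hx
        exact Submodule.subset_span ⟨g * g', rmul ρ g g' a⟩
      | zero => rw [map_zero]; exact U.zero_mem
      | add x y _ _ hx hy => rw [map_add]; exact U.add_mem hx hy
      | smul c x _ hx => rw [map_smul]; exact U.smul_mem c hx
    have h1 := hR.chain hUi (g := b) (fun u hu => by rw [hb, hU0 u hu, zero_smul, add_zero]) (fun v => by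
      rw [hb, add_comm, self_add_add]
      exact U.smul_mem _ haU)
    apply hφ
    ext x
    have h2 := h1 x
    rw [hb] at h2
    rcases z2 (φ x) with h3 | h3
    · rw [h3]; rfl
    · rw [h3, one_smul] at h2
      exact absurd (by simpa using h2) ha
  obtain ⟨g, hg⟩ := hex
  obtain ⟨ψ, ⟨h0, c, hc⟩, h1⟩ := adj_symm (ρ := ρ) ⟨g, rfl⟩ ⟨φ, ⟨hφa, b, hb⟩, hg⟩
  exact ⟨_, c, ψ, hg, h0, h1, hc⟩

/-- `O₂` of the image on the quotient by a fixed vector. -/
theorem RedL.quot (hR : RedL ρ) {o : V} (ho : ∀ g, ρ g o = o) : RedL (qrep ρ o ho) := by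
  intro K hK hp k hk v
  have hfix : ∀ (h : H), (∀ v, qrep ρ o ho h v = v) → ∀ n, ρ h n = n ∨ ρ h n = n + o := by
    intro h hh n
    have h1 := hh ((Submodule.span (ZMod 2) {o}).mkQ n)
    rw [← qrep_mk] at h1
    have h2 : ρ h n - n ∈ Submodule.span (ZMod 2) {o} := (Submodule.Quotient.eq _).1 h1
    rcases mem_span_c.1 h2 with h3 | h3
    · exact Or.inl (sub_eq_zero.1 h3)
    · right
      rw [← h3]
      abel
  have h1 := hR K hK (fun k hk => by
    obtain ⟨m, hm⟩ := hp k hk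
    refine ⟨m + 1, fun n => ?_⟩
    rw [pow_succ, pow_mul, pow_two, rmul]
    rcases hfix _ hm n with h2 | h2
    · rw [h2, h2]
    · rw [h2, map_add, h2, ho, add_add_self]) k hk
  obtain ⟨n, rfl⟩ := Submodule.mkQ_surjective _ v
  rw [← qrep_mk, h1]

/-- A nontrivial element is nontrivial modulo a fixed vector. -/
theorem RedL.eq_of_quot (hR : RedL ρ) {o : V} (ho : ∀ g, ρ g o = o) {g : H}
    (hg : ∀ v, ρ g v = v ∨ ρ g v = v + o) (v : V) : ρ g v = v := by
  refine hR.chain (U := Submodule.span (ZMod 2) {o}) ?_ ?_ ?_ v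
  · intro g u hu
    rcases mem_span_c.1 hu with rfl | rfl
    · rw [map_zero]; exact Submodule.zero_mem _
    · rw [ho]; exact hu
  · intro u hu
    rcases mem_span_c.1 hu with rfl | rfl
    · rw [map_zero]
    · rw [ho]
  · intro v
    rcases hg v with h1 | h1
    · rw [h1, v_add_self]; exact Submodule.zero_mem _
    · rw [h1, add_comm, self_add_add]
      exact Submodule.mem_span_singleton_self o

/-- **The core lemma**, linear form. -/
theorem RedL.core [Finite V] (hR : RedL ρ) {o a : V} {b : H} (ho : ∀ g, ρ g o = o) (ha : a ≠ 0) (hao : a ≠ o)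
    (hb : ∀ x, ρ b x = x ∨ ρ b x = x + a ∨ ρ b x = x + o ∨ ρ b x = x + a + o) (hne : ∃ x, ρ b x ≠ x)
    (hba : ρ b a = a) :
    ∃ g : H, (ρ b (ρ g a) ≠ ρ g a) ∧ (∃ x, ρ b (ρ (g * b * g⁻¹) x) ≠ ρ (g * b * g⁻¹) (ρ b x)) ∧
      (∀ x, ρ b x = x → ρ g x = x ∨ ρ g (x + a) = x + a) ∧
      ∀ Z : Submodule (ZMod 2) V, o ∈ Z → a ∉ Z → (∀ z ∈ Z, ρ g z ∈ Z) → ∀ s ∈ Z, ρ b s = s → ρ g s = s := by
  classical
  set π := (Submodule.span (ZMod 2) {o}).mkQ with hπ
  set ρ' := qrep ρ o ho with hρ'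
  have hq : ∀ g n, π (ρ g n) = ρ' g (π n) := fun g n => qrep_mk ho g n
  have hπ0 : ∀ n, π n = 0 ↔ n = 0 ∨ n = o := by
    intro n
    rw [hπ, Submodule.mkQ_apply, Submodule.Quotient.mk_eq_zero, mem_span_c]
  have hπe : ∀ n m, π n = π m → n = m ∨ n = m + o := by
    intro n m e
    have h1 : π (n + m) = 0 := by rw [map_add, e, v_add_self]
    rcases (hπ0 _).1 h1 with h2 | h2
    · exact Or.inl (v_eq_of_add h2)
    · right
      rw [← h2, ← add_assoc, add_comm m n, add_add_self]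
  have ha' : π a ≠ 0 := fun e => by
    rcases (hπ0 _).1 e with h1 | h1
    exacts [ha h1, hao h1]
  have hπo : π o = 0 := (hπ0 o).2 (Or.inr rfl)
  have hb' : ∀ x, ρ' b x = x ∨ ρ' b x = x + π a := by
    intro x
    obtain ⟨n, rfl⟩ := Submodule.mkQ_surjective _ x
    rw [← hπ, ← hq]
    rcases hb n with h1 | h1 | h1 | h1
    · exact Or.inl (by rw [h1])
    · exact Or.inr (by rw [h1, map_add])
    · exact Or.inl (by rw [h1, map_add, hπo, add_zero])
    · exact Or.inr (by rw [h1, map_add, map_add, hπo, add_zero])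
  obtain ⟨φ, hφ⟩ := exists_functional (ρ' b) ha' hb'
  have hφ0 : φ ≠ 0 := by
    rintro rfl
    obtain ⟨x, hx⟩ := hne
    apply hx
    refine hR.eq_of_quot ho (g := b) (fun v => ?_) x
    have h1 := hφ (π v)
    rw [LinearMap.zero_apply, zero_smul, add_zero, ← hq] at h1
    exact hπe _ _ h1
  have hφa : φ (π a) = 0 := by
    have h1 := hφ (π a)
    rw [← hq, hba] at h1
    rcases z2 (φ (π a)) with h2 | h2
    · exact h2
    · rw [h2, one_smul] at h1
      exact absurd (by simpa using h1.symm) ha'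
  have : Finite (V ⧸ Submodule.span (ZMod 2) {o}) := Finite.of_surjective _ (Submodule.mkQ_surjective _)
  obtain ⟨u, c, ψ, h1, h2, h3, hc⟩ := (hR.quot ho).exists_cu ha' hφ hφ0 hφa
  have hψb : ∀ x, ρ' (b * c * b⁻¹) x = x + (ψ x + φ x) • (u + π a) := by
    intro x
    have e1 : ρ' b (x + φ x • π a) = x := by
      rw [hφ, map_add, map_smul, hφa, smul_zero, add_zero, add_assoc, v_add_self, add_zero]
    have hbi : ρ' b⁻¹ x = x + φ x • π a := by
      conv_lhs => rw [← e1]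
      rw [rinv]
    have e2 : ψ (x + φ x • π a) = ψ x + φ x := by
      rw [map_add, map_smul, h3, smul_eq_mul, mul_one]
    rw [rmul, rmul, hbi, hc, e2, map_add (ρ' b) (x + φ x • π a), e1, map_smul, hφ u, h1, one_smul]
  -- the element `g`
  set g : H := c * (b * c * b⁻¹) with hg
  have hg1 : ∀ x, ρ' g x = x + ψ x • u + (ψ x + φ x) • π a := by
    intro x
    rw [hg, rmul, hψb, hc, map_add, map_smul, map_add, h2, h3, zero_add, smul_eq_mul, mul_one, smul_add,
      add_smul (ψ x) (ψ x + φ x) u]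
    have e3 : x + ((ψ x + φ x) • u + (ψ x + φ x) • π a) + (ψ x • u + (ψ x + φ x) • u)
        = (x + ψ x • u + (ψ x + φ x) • π a) + ((ψ x + φ x) • u + (ψ x + φ x) • u) := by abel
    rw [e3, v_add_self, add_zero]
  have hga : ρ' g (π a) = u := by
    rw [hg1, h3, hφa, one_smul, add_zero, one_smul, add_comm (π a) u, add_add_self]
  have hgu : ρ' g u = u + π a := by
    rw [hg1, h2, h1, zero_smul, add_zero, zero_add, one_smul]
  -- fixed vectors of `b` killed by `ψ`
  have hfix : ∀ x, ρ b x = x → ψ (π x) = 0 → ρ g x = x := by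
    intro x hx h4
    have e1 : ρ c x = x ∨ ρ c x = x + o := by
      apply hπe
      rw [hq, hc, h4, zero_smul, add_zero]
    have hbi : ρ b⁻¹ x = x := by
      conv_lhs => rw [← hx]
      rw [rinv]
    have e2 : ρ (b * c * b⁻¹) x = ρ c x := by
      rw [rmul, rmul, hbi]
      rcases e1 with e1 | e1
      · rw [e1, hx]
      · rw [e1, map_add, hx, ho]
    rw [hg, rmul, e2]
    rcases e1 with e1 | e1
    · rw [e1, e1]
    · rw [e1, map_add, e1, ho, add_add_self]
  have hpa : π a ≠ u := fun e => by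
    rw [e, h1] at hφa
    exact one_ne_zero hφa
  refine ⟨g, ?_, ?_, ?_, ?_⟩
  · intro e
    have e1 := congrArg π e
    rw [hq, hq, hga, hφ, h1, one_smul] at e1
    exact ha' (by simpa using e1)
  · have hne' : ∃ x, φ x = 1 := by
      by_contra hcon
      push Not at hcon
      exact hφ0 (LinearMap.ext fun x => z2_ne_one (hcon x))
    obtain ⟨x, hx⟩ := hne'
    obtain ⟨n, hn⟩ := Submodule.mkQ_surjective _ (ρ' g x)
    refine ⟨n, fun e => ?_⟩
    have e1 := congrArg π e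
    rw [hq, hq, hq, hq] at e1
    have hgb : ∀ y, ρ' (g * b * g⁻¹) y = y + φ (ρ' g⁻¹ y) • u := by
      intro y
      rw [rmul, rmul, hφ, map_add, rinv', map_smul, hga]
    have e2 : π n = ρ' g x := hn
    rw [e2, hgb, rinv, hx, one_smul, hφ (ρ' g x + u), hφ (ρ' g x), hgb, map_add, h1] at e1
    have e3 : φ (ρ' g⁻¹ (ρ' g x + φ (ρ' g x) • π a)) = 1 + φ (ρ' g x) * φ (ρ' g⁻¹ (π a)) := by
      rw [map_add, rinv, map_add, hx, map_smul, map_smul, smul_eq_mul]
    rw [e3] at e1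
    generalize φ (ρ' g x) = t at e1
    generalize φ (ρ' g⁻¹ (π a)) = r at e1
    generalize ρ' g x = y at e1
    rcases z2 t with rfl | rfl
    · rw [zero_mul, zero_add, add_zero, one_smul, one_smul, zero_smul, add_zero] at e1
      exact ha' (by simpa using e1)
    · rw [z2_add_self, zero_smul, add_zero, one_mul, one_smul] at e1
      rcases z2 r with rfl | rfl
      · rw [add_zero, one_smul] at e1
        apply ha'
        have e4 : y + π a + u = (y + u) + π a := by abel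
        rw [e4] at e1
        simpa using e1.symm
      · rw [z2_add_self, zero_smul, add_zero] at e1
        exact hpa (by simpa using e1.symm)
  · intro x hx
    rcases z2 (ψ (π x)) with h4 | h4
    · exact Or.inl (hfix x hx h4)
    · right
      apply hfix
      · rw [map_add, hx, hba]
      · rw [map_add, map_add, h4, h3]
        exact z2_add_self 1
  · intro Z hoZ haZ hZ s hs hbs
    rcases z2 (ψ (π s)) with h4 | h4
    · exact hfix s hbs h4
    · exfalso
      apply haZ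
      have h5 : ρ g s + s ∈ Z := Z.add_mem (hZ s hs) hs
      have h6 := hZ _ h5
      have hφs : φ (π s) = 0 := by
        have e1 := hφ (π s)
        rw [← hq, hbs] at e1
        rcases z2 (φ (π s)) with e2 | e2
        · exact e2
        · rw [e2, one_smul] at e1
          exact absurd (by simpa using e1.symm) ha'
      have h7 : π (ρ g (ρ g s + s)) = π a := by
        rw [hq, map_add, hq, hg1 (π s), h4, hφs, one_smul, add_zero, one_smul]
        have e3 : π s + u + π a + π s = u + π a := by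
          have e4 : π s + u + π a + π s = (u + π a) + (π s + π s) := by abel
          rw [e4, v_add_self, add_zero]
        rw [e3, map_add, hgu, hga]
        have e5 : u + π a + u = π a + (u + u) := by abel
        rw [e5, v_add_self, add_zero]
      rcases hπe _ _ h7 with h8 | h8
      · rw [h8] at h6; exact h6
      · rw [h8] at h6
        have h9 := Z.add_mem h6 hoZ
        rwa [add_add_self] at h9

end lin

section grp

variable {G : Type*} [Group G]

/-- `C / C_C(N)` has no nontrivial normal 2-subgroup. -/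
def RedG (C N : Subgroup G) : Prop :=
  ∀ K : Subgroup G, K ≤ C → (∀ c ∈ C, ∀ k ∈ K, c * k * c⁻¹ ∈ K) →
    (∀ k ∈ K, ∃ m : ℕ, ∀ n ∈ N, k ^ 2 ^ m * n * (k ^ 2 ^ m)⁻¹ = n) → ∀ k ∈ K, ∀ n ∈ N, k * n * k⁻¹ = n

theorem RedG.redL {C N : Subgroup G} (hR : RedG C N) (hsq : ∀ x ∈ N, x * x = 1)
    (hnor : ∀ c ∈ C, ∀ n ∈ N, c * n * c⁻¹ ∈ N) : RedL (EA.crep hsq C hnor) := by
  intro K hK hp k hk v
  apply EA.ext
  rw [EA.val_crep]
  refine hR (K.map C.subtype) (Subgroup.map_subtype_le K) ?_ ?_ (k : G) ⟨k, hk, rfl⟩ v.val v.val_mem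
  · rintro c hc _ ⟨k, hk, rfl⟩
    exact ⟨_, hK.conj_mem k hk ⟨c, hc⟩, rfl⟩
  · rintro _ ⟨k, hk, rfl⟩
    obtain ⟨m, hm⟩ := hp k hk
    refine ⟨m, fun n hn => ?_⟩
    have h1 := congrArg EA.val (hm (EA.mk hsq n hn))
    rw [EA.val_crep, EA.val_mk] at h1
    exact h1

/-- **The core lemma.** -/
theorem RedG.core [Finite G] {C N : Subgroup G} (hR : RedG C N) (hsq : ∀ x ∈ N, x * x = 1)
    (hnor : ∀ c ∈ C, ∀ n ∈ N, c * n * c⁻¹ ∈ N) {o a b : G} (ho : o ∈ N) (hoC : ∀ c ∈ C, c * o * c⁻¹ = o)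
    (ha : a ∈ N) (ha1 : a ≠ 1) (hao : a ≠ o) (hbC : b ∈ C)
    (hb : ∀ n ∈ N, b * n * b⁻¹ = n ∨ b * n * b⁻¹ = n * a ∨ b * n * b⁻¹ = n * o ∨ b * n * b⁻¹ = n * a * o)
    (hba : b * a * b⁻¹ = a) (hne : ∃ n ∈ N, b * n * b⁻¹ ≠ n) :
    ∃ g ∈ C, b * (g * a * g⁻¹) * b⁻¹ ≠ g * a * g⁻¹ ∧ b * (g * b * g⁻¹) ≠ g * b * g⁻¹ * b ∧
      (∀ x ∈ N, b * x * b⁻¹ = x → g * x * g⁻¹ = x ∨ g * (x * a) * g⁻¹ = x * a) ∧
      ∀ Z : Subgroup G, o ∈ Z → a ∉ Z → (∀ z ∈ Z, g * z * g⁻¹ ∈ Z) → ∀ s ∈ Z, s ∈ N → b * s * b⁻¹ = s →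
        g * s * g⁻¹ = s := by
  have hL := hR.redL hsq hnor
  obtain ⟨g, h1, ⟨x, h2⟩, h3, h4⟩ := hL.core (o := EA.mk hsq o ho) (a := EA.mk hsq a ha) (b := ⟨b, hbC⟩)
    (fun g => EA.ext (hoC g g.2)) (fun e => ha1 (EA.val_eq_one.2 e)) (fun e => hao (congrArg EA.val e))
    (fun x => by
      rcases hb x.val x.val_mem with h | h | h | h
      · exact Or.inl (EA.ext h)
      · exact Or.inr (Or.inl (EA.ext h))
      · exact Or.inr (Or.inr (Or.inl (EA.ext h)))
      · exact Or.inr (Or.inr (Or.inr (EA.ext h))))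
    (by
      obtain ⟨n, hn, h⟩ := hne
      exact ⟨EA.mk hsq n hn, fun e => h (congrArg EA.val e)⟩)
    (EA.ext hba)
  refine ⟨g, g.2, fun e => h1 (EA.ext e), fun e => h2 (EA.ext ?_), fun x hx hbx => ?_,
    fun Z hoZ haZ hZ s hsZ hsN hbs => ?_⟩
  · rw [EA.val_crep, EA.val_crep, EA.val_crep, EA.val_crep]
    show b * ((g : G) * b * (g : G)⁻¹ * x.val * ((g : G) * b * (g : G)⁻¹)⁻¹) * b⁻¹ =
      (g : G) * b * (g : G)⁻¹ * (b * x.val * b⁻¹) * ((g : G) * b * (g : G)⁻¹)⁻¹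
    have e1 : b * ((g : G) * b * (g : G)⁻¹ * x.val * ((g : G) * b * (g : G)⁻¹)⁻¹) * b⁻¹ =
        b * ((g : G) * b * (g : G)⁻¹) * x.val * (b * ((g : G) * b * (g : G)⁻¹))⁻¹ := by
      simp only [mul_inv_rev, inv_inv, mul_assoc]
    rw [e1, e]
    simp only [mul_inv_rev, inv_inv, mul_assoc]
  · rcases h3 (EA.mk hsq x hx) (EA.ext hbx) with h | h
    · exact Or.inl (congrArg EA.val h)
    · exact Or.inr (congrArg EA.val h)
  · let Z' : Submodule (ZMod 2) (EA N hsq) :=
      { carrier := {x | x.val ∈ Z}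
        zero_mem' := Z.one_mem
        add_mem' := fun {a b} ha hb => Z.mul_mem ha hb
        smul_mem' := fun c x hx => by
          rcases EA.val_smul c x with h | h
          · show (c • x).val ∈ Z
            rw [h]; exact Z.one_mem
          · show (c • x).val ∈ Z
            rw [h]; exact hx }
    exact congrArg EA.val (h4 Z' hoZ haZ (fun z hz => hZ z.val hz) (EA.mk hsq s hsN) hsZ (EA.ext hbs))

end grp

end Cfsg.Agent.Omega.IId.Red
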