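import Cfsg.Agent.Omega.IId.Red.FunMod
import Cfsg.Agent.Omega.ThmC.TwoEnd

/-!
# THEOREM C, `q = 2`, for a pair of functors `F ≤ L` (`#17245` (2))

`Fn F L` : `F v ≤ L v ≤ C_G(v)`, every element of `L v` has a 2-power in `F v`, both compatible with conjugation.
`D : ThmC.Dat S Q Z x z`, `F (z l) ≤ C_G(E)`, `E = Ω₁Z(S⁰)` (`hE`).

This file: `KK = L (z o) ∩ C_G(E) = F (z o) (L (z o) ∩ S⁰)`, `KQ = KK Q`, `W' = N_L(KQ)`; they act on `Ω₁Z(KQ)`.
-/

set_option autoImplicit false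
set_option linter.unusedSectionVars false

namespace Cfsg.Agent.Omega.IId.Red

open scoped Pointwise
open Subgroup Cfsg Cfsg.Agent.MinSimple.VModule
open Cfsg.Agent.ZN (zc o2)
open Cfsg.Agent.Omega.IITwo.Count (conj_mem conj_mem' mem_norm)
open Cfsg.Agent.Omega.ThmC

universe u

variable {G : Type u} [Group G]

/-- the pair of functors. -/
structure Fn (F L : G → Subgroup G) : Prop where
  FL : ∀ v, F v ≤ L v
  LC : ∀ v, L v ≤ centralizer {v}
  two : ∀ v, TwoMod (F v) (L v)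
  cF : ∀ g v w, w ∈ F v → g * w * g⁻¹ ∈ F (g * v * g⁻¹)
  cL : ∀ g v w, w ∈ L v → g * w * g⁻¹ ∈ L (g * v * g⁻¹)

namespace Fn

variable {F L : G → Subgroup G} (hf : Fn F L)
include hf

theorem nL [Finite G] (v : G) : centralizer {v} ≤ normalizer (L v : Set G) := fun g hg =>
  mem_norm fun w hw => by
    have := hf.cL g v w hw
    rwa [mem_cs'.mp hg] at this

theorem nF [Finite G] (v : G) : centralizer {v} ≤ normalizer (F v : Set G) := fun g hg =>
  mem_norm fun w hw => by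
    have := hf.cF g v w hw
    rwa [mem_cs'.mp hg] at this

theorem cL' {g v w y : G} (hy : g * v * g⁻¹ = y) (h : w ∈ L v) : g * w * g⁻¹ ∈ L y := hy ▸ hf.cL g v w h

theorem cF' {g v w y : G} (hy : g * v * g⁻¹ = y) (h : w ∈ F v) : g * w * g⁻¹ ∈ F y := hy ▸ hf.cF g v w h

end Fn

/-- conjugation preserves centralisers. -/
theorem conj_cent_of {X : Subgroup G} {g c : G} (hg : g ∈ normalizer (X : Set G)) (hc : c ∈ centralizer (X : Set G)) :
    g * c * g⁻¹ ∈ centralizer (X : Set G) := by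
  rw [mem_centralizer_iff]
  intro v hv
  have h3 := mem_centralizer_iff.mp hc _ (conj_mem' hg hv)
  calc v * (g * c * g⁻¹) = g * ((g⁻¹ * v * g) * c) * g⁻¹ := by group
    _ = g * (c * (g⁻¹ * v * g)) * g⁻¹ := by rw [h3]
    _ = g * c * g⁻¹ * v := by group

section
variable {S : Sylow 2 G} {Q : Subgroup G} {ι : Type} {Z : ι → Subgroup G} {x z : ι → G}

/-- `C_G(E)`, `E = Ω₁Z(S⁰)`. -/
abbrev CE (S : Sylow 2 G) (Z : ι → Subgroup G) : Subgroup G := centralizer (zc (S0 (S : Subgroup G) Z) : Set G)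

/-- `KK = L ∩ C_G(E)`. -/
def KK (L : G → Subgroup G) (S : Sylow 2 G) (Z : ι → Subgroup G) (v : G) : Subgroup G := L v ⊓ CE S Z

/-- `KK Q`. -/
def KQ (L : G → Subgroup G) (S : Sylow 2 G) (Z : ι → Subgroup G) (Q : Subgroup G) (v : G) : Subgroup G :=
  KK L S Z v ⊔ Q

/-- `W' = N_L(KK Q)`. -/
def Wp (L : G → Subgroup G) (S : Sylow 2 G) (Z : ι → Subgroup G) (Q : Subgroup G) (v : G) : Subgroup G :=
  L v ⊓ normalizer (KQ L S Z Q v : Set G)

/-- `KK S⁰`. -/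
def KS (L : G → Subgroup G) (S : Sylow 2 G) (Z : ι → Subgroup G) (v : G) : Subgroup G :=
  KK L S Z v ⊔ S0 (S : Subgroup G) Z

variable {F L : G → Subgroup G} [Finite G] [Finite ι] (hf : Fn F L) (D : Dat S Q Z x z)
  (hE : ∀ l, F (z l) ≤ CE S Z) {o : ι}

include hf D hE in
/-- `w ∈ L ∩ S` commutes with `x l`, `l ≠ o`, on `Ω₁Z(Q)`. -/
theorem comm_x {w : G} (hw : w ∈ L (z o)) (hs : w ∈ (S : Subgroup G)) {l : ι} (hl : l ≠ o) :
    Md.cjE (D.SN hs) * D.X l = D.X l * Md.cjE (D.SN hs) := by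
  set A : MulAut ↥(zc Q) := Md.cjE (D.SN hs) with hA
  -- `A X A⁻¹`
  have h1 : A * D.X l * A⁻¹ = D.X (D.sg w l) ∨ A * D.X l * A⁻¹ = (D.X (D.sg w l))⁻¹ := by
    have hval : ∀ a : Md Q, ((A * D.X l * A⁻¹) • a).val = (w * x l * w⁻¹) * a.val * (w * x l * w⁻¹)⁻¹ := by
      intro a
      have h0 : A • A⁻¹ • a = a := smul_inv_smul _ _
      have h2 : (A⁻¹ • a).val = w⁻¹ * a.val * w := by
        have h3 : w * (A⁻¹ • a).val * w⁻¹ = a.val := congrArg Md.val h0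
        rw [← h3]
        generalize (A⁻¹ • a).val = b
        group
      have h4 : ((A * D.X l * A⁻¹) • a).val = w * (x l * (A⁻¹ • a).val * (x l)⁻¹) * w⁻¹ := by
        rw [mul_smul, mul_smul]; rfl
      rw [h4, h2]
      group
    rcases (D.sg_spec hs l).2 with h | h
    · left
      apply Md.ext_smul
      intro a
      exact Md.ext (by rw [hval, h _ a.val_mem, Dat.val_X])
    · right
      apply Md.ext_smul
      intro a
      apply Md.ext
      rw [hval, h _ a.val_mem]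
      have h0 : D.X (D.sg w l) • (D.X (D.sg w l))⁻¹ • a = a := smul_inv_smul _ _
      have h3 : x (D.sg w l) * ((D.X (D.sg w l))⁻¹ • a).val * (x (D.sg w l))⁻¹ = a.val := congrArg Md.val h0
      rw [← h3]
      generalize ((D.X (D.sg w l))⁻¹ • a).val = b
      group
  have hcube : ∀ m, (D.X m) ^ 3 = 1 := fun m => Md.faith (fun a => by
    rw [pow_succ, pow_two, mul_smul, mul_smul]; exact D.X_cube m a)
  -- `C = [X⁻¹, A]`
  have hC3 : ((D.X l)⁻¹ * (A * D.X l * A⁻¹)) ^ 3 = 1 := by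
    rcases h1 with h | h
    · rw [h]
      have hc0 : Commute (D.X l) (D.X (D.sg w l)) := D.X_comm l _
      have hc : Commute (D.X l)⁻¹ (D.X (D.sg w l)) := hc0.inv_left
      rw [hc.mul_pow, inv_pow, hcube, hcube, inv_one, one_mul]
    · rw [h]
      have hc0 : Commute (D.X l) (D.X (D.sg w l)) := D.X_comm l _
      have hc : Commute (D.X l)⁻¹ (D.X (D.sg w l))⁻¹ := hc0.inv_left.inv_right
      rw [hc.mul_pow, inv_pow, inv_pow, hcube, hcube, inv_one, one_mul]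
  have hwl : (x l)⁻¹ * w * x l ∈ L (z o) := conj_mem' (hf.nL _ (D.x_mem_C hl)) hw
  have hc : (x l)⁻¹ * w * x l * w⁻¹ ∈ L (z o) := mul_mem hwl (inv_mem hw)
  obtain ⟨n, hn⟩ := hf.two (z o) _ hc
  have hcN : (x l)⁻¹ * w * x l * w⁻¹ ∈ normalizer (zc Q : Set G) :=
    mul_mem (mul_mem (mul_mem (inv_mem (D.xN l)) (D.SN hs)) (D.xN l)) (inv_mem (D.SN hs))
  have hCe : (D.X l)⁻¹ * (A * D.X l * A⁻¹) = Md.cjE hcN := by
    have e1 : (⟨(x l)⁻¹ * w * x l * w⁻¹, hcN⟩ : normalizer (zc Q : Set G)) =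
        (⟨x l, D.xN l⟩ : normalizer (zc Q : Set G))⁻¹ * (⟨w, D.SN hs⟩ * ⟨x l, D.xN l⟩ * ⟨w, D.SN hs⟩⁻¹) := by
      apply Subtype.ext
      simp [mul_assoc]
    have e2 := congrArg (zc Q).normalizerMonoidHom e1
    simp only [map_mul, map_inv] at e2
    exact e2.symm
  set C : MulAut ↥(zc Q) := (D.X l)⁻¹ * (A * D.X l * A⁻¹) with hCd
  -- `C ^ 2 ^ n` fixes `z l`
  have hcz : (C ^ 2 ^ n) • Md.mk (z l) (D.le l (D.zm l)) = Md.mk (z l) (D.le l (D.zm l)) := by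
    have e1 : C ^ 2 ^ n = Md.cjE (pow_mem hcN (2 ^ n)) := by
      rw [hCe]
      have e2 : (⟨_, hcN⟩ : normalizer (zc Q : Set G)) ^ 2 ^ n = ⟨_, pow_mem hcN (2 ^ n)⟩ := rfl
      have e3 := congrArg (zc Q).normalizerMonoidHom e2
      rw [map_pow] at e3
      exact e3
    rw [e1]
    apply Md.ext
    rw [Md.val_cjE, Md.val_mk]
    have h5 := mem_centralizer_iff.mp (hE o hn) _ (D.z_mem_E l)
    rw [← h5]
    group
  -- so `C` fixes `z l`
  have hcz1 : C • Md.mk (z l) (D.le l (D.zm l)) = Md.mk (z l) (D.le l (D.zm l)) := by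
    have h6 : Nat.Coprime (2 ^ n) 3 := Nat.Coprime.pow_left n (by decide)
    have h7 : ∃ m : ℕ, (C ^ 2 ^ n) ^ m = C := by
      have h8 : orderOf C ∣ 3 := orderOf_dvd_of_pow_eq_one hC3
      exact exists_pow_eq_self_of_coprime (Nat.Coprime.coprime_dvd_right h8 h6)
    obtain ⟨m, hm⟩ := h7
    rw [← hm]
    clear hm
    induction m with
    | zero => rw [pow_zero, one_smul]
    | succ m ih => rw [pow_succ, mul_smul, hcz, ih]
  have hzl : z l ∈ Z l := D.zm l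
  -- `C = 1`
  have h4 : (D.X l)⁻¹ * (A * D.X l * A⁻¹) = 1 := by
    have hX : ∀ a : Md Q, a.val ∈ Z l → a ≠ 0 → D.X l • a ≠ a := by
      intro a ha ha0 h
      have h3 := D.X_three ha
      rw [h, h, Md.two, zero_add] at h3
      exact ha0 h3
    have hX' : ∀ a : Md Q, a.val ∈ Z l → a ≠ 0 → (D.X l)⁻¹ • a ≠ a := by
      intro a ha ha0 h
      exact hX a ha ha0 (by rw [inv_smul_eq_iff] at h; exact h.symm)
    have hz0 : Md.mk (z l) (D.le l (D.zm l)) ≠ 0 := fun h => D.z1 l (congrArg Md.val h)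
    have h2 : (A * D.X l * A⁻¹) • Md.mk (z l) (D.le l (D.zm l)) = D.X l • Md.mk (z l) (D.le l (D.zm l)) := by
      rw [hCd, mul_smul, inv_smul_eq_iff] at hcz1
      exact hcz1
    rcases h1 with h | h
    · rw [h] at h2 ⊢
      rcases eq_or_ne (D.sg w l) l with h3 | h3
      · rw [h3, inv_mul_cancel]
      · exfalso
        rw [D.X_other h3 (a := Md.mk (z l) (D.le l (D.zm l))) hzl] at h2
        exact hX (Md.mk (z l) (D.le l (D.zm l))) hzl hz0 h2.symm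
    · exfalso
      rw [h] at h2
      rcases eq_or_ne (D.sg w l) l with h3 | h3
      · rw [h3, inv_smul_eq_iff] at h2
        -- `z = X X z`
        have h5 := D.X_three (l := l) (a := Md.mk (z l) (D.le l (D.zm l))) hzl
        rw [← h2] at h5
        have h6 : D.X l • Md.mk (z l) (D.le l (D.zm l)) = 0 := by
          calc D.X l • Md.mk (z l) (D.le l (D.zm l)) =
              (Md.mk (z l) (D.le l (D.zm l)) + Md.mk (z l) (D.le l (D.zm l))) +
                D.X l • Md.mk (z l) (D.le l (D.zm l)) := by rw [Md.two, zero_add]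
            _ = Md.mk (z l) (D.le l (D.zm l)) + D.X l • Md.mk (z l) (D.le l (D.zm l)) +
                Md.mk (z l) (D.le l (D.zm l)) := by abel
            _ = 0 := h5
        rw [smul_eq_zero_iff_eq] at h6
        exact hz0 h6
      · rw [inv_smul_eq_iff] at h2
        have h5 : (D.X l • Md.mk (z l) (D.le l (D.zm l))).val ∈ Z l := D.X_mem hzl
        rw [D.X_other h3 h5] at h2
        exact hX (Md.mk (z l) (D.le l (D.zm l))) hzl hz0 h2.symm
  have h5 := inv_mul_eq_one.mp h4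
  rw [eq_mul_inv_iff_mul_eq] at h5
  exact h5.symm

include hf D hE in
theorem comm_x' {w : G} (hw : w ∈ L (z o)) (hs : w ∈ (S : Subgroup G)) {l : ι} (hl : l ≠ o) {v : G}
    (hv : v ∈ zc Q) : w * (x l * v * (x l)⁻¹) * w⁻¹ = x l * (w * v * w⁻¹) * (x l)⁻¹ := by
  have h := comm_x hf D hE hw hs hl
  have h1 : (Md.cjE (D.SN hs) * D.X l) • Md.mk v hv = (D.X l * Md.cjE (D.SN hs)) • Md.mk v hv := by rw [h]
  rw [mul_smul, mul_smul] at h1
  exact congrArg Md.val h1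

include hf D hE in
/-- `L ∩ S ≤ S⁰`. -/
theorem inf_le_S0 : L (z o) ⊓ (S : Subgroup G) ≤ S0 (S : Subgroup G) Z := by
  intro w hw
  rw [mem_inf] at hw
  rw [D.mem_S0_iff hw.2]
  intro l
  rcases eq_or_ne l o with rfl | hl
  · exact D.sg_of_z hw.2 (mem_cs.mp (hf.LC _ hw.1))
  · refine D.sg_eq' hw.2 fun v hv => ?_
    have h1 := comm_x' hf D hE hw.1 hw.2 hl (D.le l hv)
    have h2 := comm_x' hf D hE hw.1 hw.2 hl (conj_mem (D.xN l) (D.le l hv))
    have h3 : pr (x l) (w * v * w⁻¹) = w * pr (x l) v * w⁻¹ := by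
      unfold pr
      rw [← h1, ← h2]; group
    rw [D.pr_self hv] at h3
    have h4 := D.pi_mem l (Md.mk (w * v * w⁻¹) (conj_mem (D.SN hw.2) (D.le l hv)))
    rw [Dat.val_pi, Md.val_mk, h3] at h4
    exact h4

/-! ### `KK` -/

omit [Finite G] [Finite ι] in
theorem KK_le_L : KK L S Z (z o) ≤ L (z o) := inf_le_left

omit [Finite G] [Finite ι] in
theorem KK_le_CE : KK L S Z (z o) ≤ CE S Z := inf_le_right

include hf hE in
theorem F_le_KK : F (z o) ≤ KK L S Z (z o) := le_inf (hf.FL _) (hE o)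

include D in
/-- `S⁰` has odd index in `C_G(E)`. -/
theorem S0_odd : ¬ 2 ∣ (S0 (S : Subgroup G) Z).relIndex (CE S Z) := by
  have h1 : CE S Z ≤ normalizer (zc (S0 (S : Subgroup G) Z) : Set G) := centralizer_le_normalizer _
  have h2 : normalizer (zc (S0 (S : Subgroup G) Z) : Set G) ≤ normalizer (CE S Z : Set G) :=
    fun g hg => mem_norm fun c hc => conj_cent_of hg hc
  have h3 := TwoOf.not_dvd_relIndex_inf D.S_le_nor_E h1 h2 (MinSimple.Basic.not_dvd_relIndex S D.S_le_nor_E)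
  rwa [D.inf_cE] at h3

include D in
theorem S0_odd' {J : Subgroup G} (h1 : S0 (S : Subgroup G) Z ≤ J) (h2 : J ≤ CE S Z) :
    ¬ 2 ∣ (S0 (S : Subgroup G) Z).relIndex J := fun h =>
  S0_odd D (h.trans ⟨J.relIndex (CE S Z), (relIndex_mul_relIndex _ _ _ h1 h2).symm⟩)

include hf D in
theorem S0_nor_KK : S0 (S : Subgroup G) Z ≤ normalizer (KK L S Z (z o) : Set G) := by
  intro s hs
  refine mem_norm fun w hw => ?_
  have h1 : s ∈ CE S Z := le_centralizer_zc _ hs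
  exact mem_inf.mpr ⟨conj_mem (hf.nL _ (D.S0_le_C hs)) (mem_inf.mp hw).1,
    mul_mem (mul_mem h1 (mem_inf.mp hw).2) (inv_mem h1)⟩

include hf D hE in
/-- `KK = F (S⁰ ∩ KK)`. -/
theorem KK_le : KK L S Z (z o) ≤ F (z o) ⊔ (S0 (S : Subgroup G) Z ⊓ KK L S Z (z o)) :=
  mod_le (F_le_KK hf hE) ((KK_le_L.trans (hf.LC _)).trans (hf.nF _)) ((hf.two _).mono KK_le_L) (S0_nor_KK hf D)
    (S0_odd' D le_sup_left (sup_le (le_centralizer_zc _) KK_le_CE))

include hf D hE in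
/-- the elements of `KK`. -/
theorem mem_KK {g : G} (hg : g ∈ KK L S Z (z o)) : ∃ f ∈ F (z o), ∃ s ∈ S0 (S : Subgroup G) Z, s ∈ L (z o) ∧ g = f * s := by
  have h1 := KK_le hf D hE hg
  have hn : S0 (S : Subgroup G) Z ⊓ KK L S Z (z o) ≤ normalizer (F (z o) : Set G) :=
    (inf_le_left.trans D.S0_le_C).trans (hf.nF _)
  have h2 : g ∈ (F (z o) : Set G) * (S0 (S : Subgroup G) Z ⊓ KK L S Z (z o) : Subgroup G) := by
    rw [← coe_mul_of_right_le_normalizer_left (F (z o)) _ hn]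
    exact h1
  obtain ⟨f, hf', s, hs, rfl⟩ := h2
  exact ⟨f, hf', s, (mem_inf.mp hs).1, KK_le_L (mem_inf.mp hs).2, rfl⟩

include hf D hE in
/-- `x l` normalises `KK`. -/
theorem x_nor_KK {l : ι} (hl : l ≠ o) : x l ∈ normalizer (KK L S Z (z o) : Set G) := by
  refine mem_norm fun g hg => ?_
  obtain ⟨f, hfF, s, hs, hsL, rfl⟩ := mem_KK hf D hE hg
  have hxC := D.x_mem_C hl
  have e : x l * (f * s) * (x l)⁻¹ = (x l * f * (x l)⁻¹) * ((x l * s * (x l)⁻¹ * s⁻¹) * s) := by group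
  have h1 : x l * s * (x l)⁻¹ ∈ L (z o) := conj_mem (hf.nL _ hxC) hsL
  have hsS : s ∈ (S : Subgroup G) := Dat.S0_le hs
  have h2 : x l * s * (x l)⁻¹ * s⁻¹ ∈ KK L S Z (z o) := by
    refine mem_inf.mpr ⟨mul_mem h1 (inv_mem hsL), centralizer_le D.E_le ?_⟩
    rw [mem_centralizer_iff]
    intro v hv
    have hv1 : (x l)⁻¹ * (s⁻¹ * v * s) * x l ∈ zc Q := conj_mem' (D.xN l) (conj_mem' (D.SN hsS) hv)
    have h3 := comm_x' hf D hE hsL hsS hl hv1
    have h4 : x l * ((x l)⁻¹ * (s⁻¹ * v * s) * x l) * (x l)⁻¹ = s⁻¹ * v * s := by group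
    rw [h4] at h3
    have h5 : v = x l * (s * ((x l)⁻¹ * (s⁻¹ * v * s) * x l) * s⁻¹) * (x l)⁻¹ := by
      rw [← h3]; group
    have h6 : v = (x l * s * (x l)⁻¹ * s⁻¹) * v * (x l * s * (x l)⁻¹ * s⁻¹)⁻¹ := by
      calc v = x l * (s * ((x l)⁻¹ * (s⁻¹ * v * s) * x l) * s⁻¹) * (x l)⁻¹ := h5
        _ = _ := by group
    exact (mul_inv_eq_iff_eq_mul.mp h6.symm).symm
  rw [e]
  exact mul_mem (F_le_KK hf hE (conj_mem (hf.nF _ hxC) hfF))
    (mul_mem h2 (mem_inf.mpr ⟨hsL, le_centralizer_zc _ hs⟩))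

/-! ### `KQ` -/

omit [Finite G] [Finite ι] in
theorem KK_le_KQ : KK L S Z (z o) ≤ KQ L S Z Q (z o) := le_sup_left

omit [Finite G] [Finite ι] in
theorem Q_le_KQ : Q ≤ KQ L S Z Q (z o) := le_sup_right

include D in
theorem KQ_le_CE : KQ L S Z Q (z o) ≤ CE S Z := sup_le KK_le_CE (D.Q_le_S0.trans (le_centralizer_zc _))

include D in
theorem ZK_le : zc (KQ L S Z Q (z o)) ≤ zc Q := zc_le_of_le D.CQ Q_le_KQ

include D in
theorem mem_ZK {v : G} : v ∈ zc (KQ L S Z Q (z o)) ↔ v ∈ zc Q ∧ ∀ s ∈ KQ L S Z Q (z o), s * v = v * s :=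
  mem_zc_iff_of_le D.CQ Q_le_KQ

include D in
theorem E_le_ZK : zc (S0 (S : Subgroup G) Z) ≤ zc (KQ L S Z Q (z o)) := fun v hv =>
  (mem_ZK D).mpr ⟨D.E_le hv, fun _ hs => (mem_centralizer_iff.mp (KQ_le_CE D hs) v hv).symm⟩

include hf D hE in
theorem x_nor_KQ {l : ι} (hl : l ≠ o) : x l ∈ normalizer (KQ L S Z Q (z o) : Set G) := by
  refine mem_norm fun k hk => ?_
  have key : KQ L S Z Q (z o) ≤ (KQ L S Z Q (z o)).comap (MulAut.conj (x l)).toMonoidHom := by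
    refine sup_le (fun k hk => ?_) (fun k hk => ?_)
    · exact KK_le_KQ (conj_mem (x_nor_KK hf D hE hl) hk)
    · exact Q_le_KQ (conj_mem (D.xQ l) hk)
  exact key hk

include hf D in
theorem S0_nor_KQ : S0 (S : Subgroup G) Z ≤ normalizer (KQ L S Z Q (z o) : Set G) := by
  intro s hs
  refine mem_norm fun k hk => ?_
  have key : KQ L S Z Q (z o) ≤ (KQ L S Z Q (z o)).comap (MulAut.conj s).toMonoidHom := by
    refine sup_le (fun k hk => ?_) (fun k hk => ?_)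
    · exact KK_le_KQ (conj_mem (S0_nor_KK hf D hs) hk)
    · exact Q_le_KQ (conj_mem (D.SQ (Dat.S0_le hs)) hk)
  exact key hk

include hf D hE in
theorem x_nor_ZK {l : ι} (hl : l ≠ o) : x l ∈ normalizer (zc (KQ L S Z Q (z o)) : Set G) :=
  normalizer_le_normalizer_zc _ (x_nor_KQ hf D hE hl)

include hf D in
theorem S0_nor_ZK : S0 (S : Subgroup G) Z ≤ normalizer (zc (KQ L S Z Q (z o)) : Set G) :=
  fun _ hs => normalizer_le_normalizer_zc _ (S0_nor_KQ hf D hs)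

include hf D hE in
theorem pr_ZK (l : ι) : ∀ v ∈ zc (KQ L S Z Q (z o)), pr (x l) v ∈ zc (KQ L S Z Q (z o)) := by
  classical
  have := Fintype.ofFinite ι
  intro v hv
  have h1 : ∀ l, l ≠ o → pr (x l) v ∈ zc (KQ L S Z Q (z o)) := fun l hl => pr_mem (x_nor_ZK hf D hE hl) hv
  rcases eq_or_ne l o with rfl | hl
  · have h2 := D.pi_sum (Md.mk v (ZK_le D hv))
    rw [← Finset.add_sum_erase _ _ (Finset.mem_univ l)] at h2
    have h3 : (∑ m ∈ Finset.univ.erase l, D.pi m (Md.mk v (ZK_le D hv))).val ∈ zc (KQ L S Z Q (z l)) :=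
      Dat.sum_mem _ _ fun m hm => h1 m (Finset.ne_of_mem_erase hm)
    have h4 : pr (x l) v * (∑ m ∈ Finset.univ.erase l, D.pi m (Md.mk v (ZK_le D hv))).val = v := congrArg Md.val h2
    have h5 : pr (x l) v = v * ((∑ m ∈ Finset.univ.erase l, D.pi m (Md.mk v (ZK_le D hv))).val)⁻¹ := by
      rw [eq_mul_inv_iff_mul_eq]; exact h4
    rw [h5]
    exact mul_mem hv (inv_mem h3)
  · exact h1 l hl

/-! ### `W'` -/

omit [Finite G] [Finite ι] in
theorem Wp_le : Wp L S Z Q (z o) ≤ L (z o) := inf_le_left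

omit [Finite G] [Finite ι] in
theorem Wp_nor_KQ : Wp L S Z Q (z o) ≤ normalizer (KQ L S Z Q (z o) : Set G) := inf_le_right

omit [Finite G] [Finite ι] in
theorem Wp_nor_ZK : Wp L S Z Q (z o) ≤ normalizer (zc (KQ L S Z Q (z o)) : Set G) :=
  fun _ hs => normalizer_le_normalizer_zc _ hs.2

include hf D hE in
theorem x_conj_Wp {l : ι} (hl : l ≠ o) {w : G} (hw : w ∈ Wp L S Z Q (z o)) :
    x l * w * (x l)⁻¹ ∈ Wp L S Z Q (z o) :=
  mem_inf.mpr ⟨conj_mem (hf.nL _ (D.x_mem_C hl)) (mem_inf.mp hw).1,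
    mul_mem (mul_mem (x_nor_KQ hf D hE hl) (mem_inf.mp hw).2) (inv_mem (x_nor_KQ hf D hE hl))⟩

include hf D in
theorem S0_conj_Wp {s : G} (hs : s ∈ S0 (S : Subgroup G) Z) {w : G} (hw : w ∈ Wp L S Z Q (z o)) :
    s * w * s⁻¹ ∈ Wp L S Z Q (z o) :=
  mem_inf.mpr ⟨conj_mem (hf.nL _ (D.S0_le_C hs)) (mem_inf.mp hw).1,
    mul_mem (mul_mem (S0_nor_KQ hf D hs) (mem_inf.mp hw).2) (inv_mem (S0_nor_KQ hf D hs))⟩

include D in
/-- `L ∩ KQ = KK`. -/
theorem L_inf_KQ {g : G} (h1 : g ∈ L (z o)) (h2 : g ∈ KQ L S Z Q (z o)) : g ∈ KK L S Z (z o) :=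
  mem_inf.mpr ⟨h1, KQ_le_CE D h2⟩

include D in
theorem Wp_nor_KK : Wp L S Z Q (z o) ≤ normalizer (KK L S Z (z o) : Set G) := by
  intro w hw
  refine mem_norm fun k hk => ?_
  exact L_inf_KQ D (mul_mem (mul_mem (Wp_le hw) (KK_le_L hk)) (inv_mem (Wp_le hw)))
    (conj_mem (Wp_nor_KQ hw) (KK_le_KQ hk))

include D in
/-- `C_{W'}(ZK) ≤ KK`. -/
theorem Wp_faith {w : G} (hw : w ∈ Wp L S Z Q (z o)) (h : w ∈ centralizer (zc (KQ L S Z Q (z o)) : Set G)) :
    w ∈ KK L S Z (z o) := mem_inf.mpr ⟨Wp_le hw, centralizer_le (E_le_ZK D) h⟩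

omit [Finite G] [Finite ι] in
theorem KK_le_C : KK L S Z (z o) ≤ centralizer (zc (KQ L S Z Q (z o)) : Set G) :=
  KK_le_KQ.trans (le_centralizer_zc _)

omit [Finite G] [Finite ι] in
theorem KK_le_Wp : KK L S Z (z o) ≤ Wp L S Z Q (z o) := le_inf KK_le_L (KK_le_KQ.trans le_normalizer)

include hf D hE in
/-- `W' > KK` if `L` does not centralise `E`. -/
theorem exists_Wp (h : ¬ L (z o) ≤ CE S Z) : ∃ w ∈ Wp L S Z Q (z o), w ∉ CE S Z := by
  have hQn : Q ≤ normalizer (L (z o) : Set G) := D.Q_le_C.trans (hf.nL _)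
  have hBA : KQ L S Z Q (z o) ≤ Q ⊔ L (z o) := sup_le (KK_le_L.trans le_sup_right) le_sup_left
  have hne : ¬ (Q ⊔ L (z o)) ≤ KQ L S Z Q (z o) := fun hle =>
    h ((le_sup_right.trans hle).trans (KQ_le_CE D))
  obtain ⟨n, hn, hn1, hn2⟩ := exists_normalizer_mod ((F_le_KK hf hE).trans KK_le_KQ) hBA
    ((sup_le D.Q_le_C (hf.LC _)).trans (hf.nF _))
    (two_sup (S.2.to_le D.QS : IsPGroup 2 Q) hQn (hf.two _)) hne
  have h1 : n ∈ (Q : Set G) * (L (z o) : Set G) := by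
    rw [← coe_mul_of_left_le_normalizer_right Q (L (z o)) hQn]
    exact hn
  obtain ⟨q, hq, w, hw, rfl⟩ := h1
  have hq1 : q ∈ KQ L S Z Q (z o) := Q_le_KQ hq
  have hw2 : w ∈ normalizer (KQ L S Z Q (z o) : Set G) := by
    have := mul_mem (inv_mem (le_normalizer hq1)) hn2
    simpa using this
  refine ⟨w, ⟨hw, hw2⟩, fun hwS => hn1 ?_⟩
  exact mul_mem hq1 (KK_le_KQ (mem_inf.mpr ⟨hw, hwS⟩))

/-! ### `KS = KK S⁰` -/

omit [Finite G] [Finite ι] in
theorem S0_le_KS : S0 (S : Subgroup G) Z ≤ KS L S Z (z o) := le_sup_right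

omit [Finite G] [Finite ι] in
theorem KK_le_KS : KK L S Z (z o) ≤ KS L S Z (z o) := le_sup_left

omit [Finite G] [Finite ι] in
theorem KS_le_CE : KS L S Z (z o) ≤ CE S Z := sup_le KK_le_CE (le_centralizer_zc _)

include D in
/-- `Ω₁Z(KS) = E`. -/
theorem zc_KS : zc (KS L S Z (z o)) = zc (S0 (S : Subgroup G) Z) := by
  have h1 : centralizer (S0 (S : Subgroup G) Z : Set G) ≤ S0 (S : Subgroup G) Z :=
    ((centralizer_le D.Q_le_S0).trans D.CQ).trans D.Q_le_S0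
  apply le_antisymm
  · exact zc_le_of_le h1 S0_le_KS
  · intro v hv
    rw [mem_zc_iff_of_le h1 S0_le_KS]
    exact ⟨hv, fun s hs => (mem_centralizer_iff.mp (KS_le_CE hs) v hv).symm⟩

include D in
theorem KS_nor_E {g : G} (hg : g ∈ normalizer (KS L S Z (z o) : Set G)) :
    g ∈ normalizer (zc (S0 (S : Subgroup G) Z) : Set G) := by
  rw [← zc_KS D (L := L) (o := o)]
  exact normalizer_le_normalizer_zc _ hg

end

end Cfsg.Agent.Omega.IId.Red
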