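import Cfsg.Agent.Omega.IId.Red.FunStep

/-!
# THEOREM C for a pair of functors, steps (2)-(7)

`le_CE` : `L (z o)` centralises `E = Ω₁Z(S⁰)`.
-/

set_option autoImplicit false
set_option linter.unusedSectionVars false

namespace Cfsg.Agent.Omega.IId.Red

open scoped Pointwise
open Subgroup Cfsg Cfsg.Agent.MinSimple.VModule
open Cfsg.Agent.ZN (zc o2)
open Cfsg.Agent.Omega.IITwo.Count (conj_mem conj_mem' mem_norm)
open Cfsg.Agent.Omega.ThmC

universe u

variable {G : Type u} [Group G]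

section
variable {S : Sylow 2 G} {Q : Subgroup G} {ι : Type} {Z : ι → Subgroup G} {x z : ι → G}
variable {F L : G → Subgroup G} [Finite G] [Finite ι] (hf : Fn F L) (D : Dat S Q Z x z)
  (hE : ∀ l, F (z l) ≤ CE S Z) {o : ι}

include hf hE in
theorem out [Fintype ι] {w : G} (hw : w ∈ L (z o)) (hwN : w ∈ normalizer (S0 (S : Subgroup G) Z : Set G))
    (h1 : phi (norE hwN) ≠ 1) (h2 : ∀ a : Md (S0 (S : Subgroup G) Z), phi (norE hwN) • phi (norE hwN) • a = a) (p q : ι) (hpq : p ≠ q)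
    (hs1 : ∀ l, l ≠ p → l ≠ q → ∀ a : Md (S0 (S : Subgroup G) Z), phi (norE hwN) • D.pE l a = D.pE l a)
    (hs2 : ∀ l, l ≠ p → l ≠ q → ∀ a : Md (S0 (S : Subgroup G) Z), D.pE l (phi (norE hwN) • a) = D.pE l a)
    (alt : p = o ∨ (p ≠ o ∧ q ≠ o ∧ ∃ a : Md (S0 (S : Subgroup G) Z), a ≠ 0 ∧ (D.pE p a = a ∨ D.pE q a = a) ∧
      phi (norE hwN) • a = a)) :
    p = o ∧ ∃ star τ, D.Res o q hwN star τ := by
  set T : Subgroup G := (S : Subgroup G) ⊓ centralizer {z o} with hT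
  have hTn : T ≤ normalizer (L (z o) : Set G) := inf_le_right.trans (hf.nL _)
  have hR : TwoMod (F (z o)) (T ⊔ L (z o)) := two_sup (S.2.to_le inf_le_left : IsPGroup 2 T) hTn (hf.two _)
  have hC : T ⊔ L (z o) ≤ centralizer {z o} := sup_le inf_le_right (hf.LC _)
  obtain ⟨star, τ, e1, e2, e3, e4, e5, e6, e7, e8, e9, e10, e11, e12, e13, e14, e15, e16⟩ :=
    TwoN.main D.ndat o (img _ (T ⊔ L (z o))) (img _ (L (z o))) (img_isPGroup' hR (hE o))
      (by
        intro n hn hno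
        obtain ⟨s, hs, rfl⟩ := D.mem_TT.mp hn
        rw [D.sN_phi hs] at hno
        exact phi_mem_img _ (le_sup_left (α := Subgroup G) (mem_inf.mpr ⟨hs, (D.sg_iff_z hs).mp hno⟩)))
      (Dat.img_mono le_sup_right)
      (by
        intro n hn hno m hm
        obtain ⟨s, hs, rfl⟩ := D.mem_TT.mp hn
        obtain ⟨g, hg, hgW, rfl⟩ := mem_img.mp hm
        rw [D.sN_phi hs] at hno
        rw [phi_mul, phi_inv, phi_mul]
        exact phi_mem_img _ (conj_mem (hTn (mem_inf.mpr ⟨hs, (D.sg_iff_z hs).mp hno⟩)) hgW))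
      (by
        intro r hr
        obtain ⟨g, hg, hgT, rfl⟩ := mem_img.mp hr
        apply Md.ext
        rw [val_phi, Dat.val_zE]
        exact mem_cs'.mp (hC hgT))
      (phi (norE hwN)) (phi_mem_img _ hw) h1 h2 p q hpq hs1 hs2 alt
  refine ⟨e1, star, τ, ⟨e2, e3, e4, ?_, e6, e7, e8, e10, e11, e12, e13, e14, e15, e16⟩⟩
  intro s hs l
  have := e5 _ (D.mem_TT.mpr ⟨s, hs, rfl⟩) l
  rwa [D.sN_phi hs, D.sN_phi hs] at this

/-- a lift of `b`, a fixed point of `S⁰` in `B`. -/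
theorem out_of [Fintype ι] {B : Subgroup ↥(NG (KQ L S Z Q (z o)))}
    (hBH : B ≤ img (KQ L S Z Q (z o)) (Wp L S Z Q (z o))) (hB2 : ∀ b ∈ B, b * b = 1) {p q : ι} (hpq : p ≠ q)
    (hs1 : ∀ b ∈ B, ∀ l, l ≠ p → l ≠ q → ∀ a : Md (KQ L S Z Q (z o)), b • pK hf D hE o l a = pK hf D hE o l a)
    (hs2 : ∀ b ∈ B, ∀ l, l ≠ p → l ≠ q → ∀ a : Md (KQ L S Z Q (z o)), pK hf D hE o l (b • a) = pK hf D hE o l a)
    (alt : p = o ∨ (p ≠ o ∧ q ≠ o ∧ ∃ a : Md (KQ L S Z Q (z o)), a ≠ 0 ∧ (pK hf D hE o p a = a ∨ pK hf D hE o q a = a) ∧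
      (∀ u ∈ img (KQ L S Z Q (z o)) (S0 (S : Subgroup G) Z), u • a = a) ∧ ∀ b ∈ B, b • a = a))
    {b : ↥(NG (KQ L S Z Q (z o)))} (hb : b ∈ B) (hb1 : b ≠ 1)
    (hbU : ∀ u : ↥(NG (KQ L S Z Q (z o))), u ∈ img (KQ L S Z Q (z o)) (S0 (S : Subgroup G) Z) → u * b * u⁻¹ = b) :
    ∃ (w : G) (hw : w ∈ Wp L S Z Q (z o)) (hwN : w ∈ normalizer (S0 (S : Subgroup G) Z : Set G)),
      phi (Wp_nor_ZK hw) = b ∧ p = o ∧ ∃ star τ, D.Res o q hwN star τ := by
  obtain ⟨w₀, hwK₀, hw₀, rfl⟩ := mem_img.mp (hBH hb)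
  obtain ⟨k, hk, hwN⟩ := exists_nor hf D hw₀ hbU
  obtain ⟨w, rfl⟩ : ∃ w, w = k * w₀ := ⟨_, rfl⟩
  have hw : k * w₀ ∈ Wp L S Z Q (z o) := mul_mem (KK_le_Wp hk) hw₀
  have hww : phi (Wp_nor_ZK hw) = phi hwK₀ := by
    rw [phi_eq_iff]
    intro v hv
    have h1 : w₀ * v * w₀⁻¹ ∈ zc (KQ L S Z Q (z o)) := conj_mem hwK₀ hv
    calc k * w₀ * v * (k * w₀)⁻¹ = k * (w₀ * v * w₀⁻¹) * k⁻¹ := by group
      _ = w₀ * v * w₀⁻¹ := by rw [← mem_centralizer_iff.mp (KK_le_C hk) _ h1]; group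
  have hval : ∀ v ∈ zc (S0 (S : Subgroup G) Z), v ∈ zc (KQ L S Z Q (z o)) := fun v hv => E_le_ZK D hv
  rw [← hww] at hb hb1
  refine ⟨k * w₀, hw, hwN, hww, out hf D hE (Wp_le hw) hwN ?_ ?_ p q hpq ?_ ?_ ?_⟩
  · intro h0
    rw [phi_eq_one_iff] at h0
    apply hb1
    rw [phi_eq_one_iff]
    exact KK_le_C (mem_inf.mpr ⟨Wp_le hw, h0⟩)
  · intro a
    have h1 := hB2 _ hb
    rw [phi_mul, phi_eq_one_iff, mem_centralizer_iff] at h1
    have h2 := h1 _ (hval _ a.val_mem)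
    apply Md.ext
    rw [val_phi, val_phi]
    calc k * w₀ * (k * w₀ * a.val * (k * w₀)⁻¹) * (k * w₀)⁻¹ =
        (k * w₀ * (k * w₀)) * a.val * (k * w₀ * (k * w₀))⁻¹ := by group
      _ = a.val := by rw [← h2]; group
  · intro l hl hl' a
    apply Md.ext
    rw [val_phi, Dat.val_pX]
    exact congrArg Md.val (hs1 _ hb l hl hl' (Md.mk a.val (hval _ a.val_mem)))
  · intro l hl hl' a
    apply Md.ext
    rw [Dat.val_pX, val_phi, Dat.val_pX]
    exact congrArg Md.val (hs2 _ hb l hl hl' (Md.mk a.val (hval _ a.val_mem)))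
  · rcases alt with h | ⟨h1, h2, a, ha0, ha1, ha2, ha3⟩
    · exact Or.inl h
    · right
      refine ⟨h1, h2, ?_⟩
      have haE : a.val ∈ zc (S0 (S : Subgroup G) Z) := by
        rw [D.mem_E]
        refine ⟨ZK_le D a.val_mem, fun s hs => ?_⟩
        have h3 := congrArg Md.val (ha2 _ (phi_mem_img (S0_nor_ZK hf D hs) hs))
        rw [val_phi] at h3
        exact mul_inv_eq_iff_eq_mul.mp h3
      refine ⟨Md.mk a.val haE, fun h => ha0 ?_, ?_, ?_⟩
      · have h4 : a.val = 1 := congrArg Md.val h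
        exact Md.val_eq_one.mp h4
      · rcases ha1 with h3 | h3
        · have h4 := congrArg Md.val h3
          exact Or.inl (Md.ext h4)
        · have h4 := congrArg Md.val h3
          exact Or.inr (Md.ext h4)
      · have h4 := congrArg Md.val (ha3 _ hb)
        exact Md.ext h4

include hf hE in
/-- **Outcome of (2)-(5).** -/
theorem step [Fintype ι] (h : ¬ L (z o) ≤ CE S Z) :
    ∃ (q : ι) (w : G) (_ : w ∈ L (z o)) (hwN : w ∈ normalizer (S0 (S : Subgroup G) Z : Set G))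
      (star : ι → ι) (τ : ↥(NG (S0 (S : Subgroup G) Z))), D.Res o q hwN star τ ∧
      ∃ w1 ∈ L (z o), ∃ w2 ∈ L (z o), w1 * z q * w1⁻¹ ≠ z q ∧ w2 * z q * w2⁻¹ ≠ z q ∧
        w1 * z q * w1⁻¹ ≠ w2 * z q * w2⁻¹ := by
  have hH : img (KQ L S Z Q (z o)) (Wp L S Z Q (z o)) ≠ ⊥ := by
    intro h0
    obtain ⟨w, hw, hwS⟩ := exists_Wp hf D hE h
    have h1 : phi (Wp_nor_ZK hw) = 1 := by
      rw [← mem_bot, ← h0]
      exact phi_mem_img _ hw
    rw [phi_eq_one_iff] at h1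
    exact hwS (mem_inf.mp (Wp_faith D hw h1)).2
  obtain ⟨B, p, q, hBH, hBne, hpq, hB2, hBU, hs1, hs2, alt⟩ := TwoW.main (wdat hf D hE) hH
  have hB : IsPGroup 2 B := fun b => ⟨1, Subtype.ext (by
    have := hB2 b b.2
    simpa [pow_two] using this)⟩
  have hU : IsPGroup 2 (img (KQ L S Z Q (z o)) (S0 (S : Subgroup G) Z)) := img_isPGroup (S.2.to_le Dat.S0_le)
  have alt' : p = o ∨ (p ≠ o ∧ q ≠ o ∧ ∃ a : Md (KQ L S Z Q (z o)), a ≠ 0 ∧ (pK hf D hE o p a = a ∨ pK hf D hE o q a = a) ∧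
      (∀ u ∈ img (KQ L S Z Q (z o)) (S0 (S : Subgroup G) Z), u • a = a) ∧ ∀ b ∈ B, b • a = a) := by
    rcases alt with h | h
    · exact Or.inl h.1
    · exact Or.inr h
  obtain ⟨b, hb, hb1, hbU⟩ := Half.exists_fixed hB hBne hU (fun u hu => mem_norm (hBU u hu))
  obtain ⟨w, hw, hwN, hwb, hpo, star, τ, hres⟩ := out_of hf D hE hBH hB2 hpq hs1 hs2 alt' hb hb1 hbU
  have hx : ∀ b ∈ B, xh hf D hE o q * b * (xh hf D hE o q)⁻¹ ∈ B ∧ (xh hf D hE o q * b * (xh hf D hE o q)⁻¹ = b → b = 1) := by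
    rcases alt with h | h
    · exact h.2
    · exact absurd hpo h.1
  -- no `b ≠ 1` fixes `z q`
  set zK : Md (KQ L S Z Q (z o)) := Md.mk (z q) (E_le_ZK D (D.z_mem_E q)) with hzK
  have hC : ∀ b ∈ B, b • zK = zK → b = 1 := by
    let C : Subgroup ↥(NG (KQ L S Z Q (z o))) := B ⊓ MulAction.stabilizer _ zK
    have hCb : C = ⊥ := by
      by_contra hne
      have hCU : img (KQ L S Z Q (z o)) (S0 (S : Subgroup G) Z) ≤ normalizer (C : Set ↥(NG (KQ L S Z Q (z o)))) := by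
        intro u hu
        refine mem_norm fun c hc => ?_
        rw [mem_inf] at hc ⊢
        refine ⟨hBU u hu c hc.1, ?_⟩
        have hfix : ∀ u ∈ img (KQ L S Z Q (z o)) (S0 (S : Subgroup G) Z), u • zK = zK := by
          intro u hu
          obtain ⟨s, hsN, hs, rfl⟩ := mem_img.mp hu
          apply Md.ext
          rw [val_phi]
          exact mem_cs'.mp (D.S0_le_C (o := q) hs)
        rw [MulAction.mem_stabilizer_iff, mul_smul, mul_smul, hfix _ (inv_mem hu),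
          MulAction.mem_stabilizer_iff.mp hc.2, hfix _ hu]
      obtain ⟨c, hc, hc1, hcU⟩ := Half.exists_fixed (V := C) (hB.to_le inf_le_left) hne hU hCU
      rw [mem_inf] at hc
      obtain ⟨w', hw', hwN', hwb', -, star', τ', r⟩ := out_of hf D hE hBH hB2 hpq hs1 hs2 alt' hc.1 hc1 hcU
      have h1 := r.zo
      rw [r.so, mul_smul] at h1
      have h2 : τ' • D.zE o = D.zE q := by
        obtain ⟨s, hs, hsτ⟩ := D.mem_TT.mp r.mem
        have h3 := r.map
        rw [← hsτ, D.sN_phi hs, r.so] at h3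
        rw [← hsτ]
        apply Md.ext
        rw [val_phi, Dat.val_zE, Dat.val_zE, D.z_conj hs, h3]
      have h4 : phi (norE hwN') • D.zE q = D.zE q := by
        have h5 := MulAction.mem_stabilizer_iff.mp hc.2
        rw [← hwb'] at h5
        have h6 := congrArg Md.val h5
        exact Md.ext h6
      rw [h2, h4] at h1
      exact D.zE_ne o (by simpa using h1.symm)
    intro b hb hbz
    have : b ∈ C := mem_inf.mpr ⟨hb, MulAction.mem_stabilizer_iff.mpr hbz⟩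
    rw [hCb] at this
    exact this
  refine ⟨q, w, Wp_le hw, hwN, star, τ, hres, ?_⟩
  obtain ⟨hb', hb'1⟩ := hx b hb
  set b' := xh hf D hE o q * b * (xh hf D hE o q)⁻¹ with hb'd
  obtain ⟨w2, hw2K, hw2, hw2b⟩ := mem_img.mp (hBH hb')
  have hne : b' ≠ b := fun h => hb1 (hb'1 h)
  have hb'ne : b' ≠ 1 := by
    intro h
    apply hb1
    have : b = (xh hf D hE o q)⁻¹ * b' * xh hf D hE o q := by rw [hb'd]; group
    rw [this, h]; group
  have hv : ∀ {g : G} (hg : g ∈ normalizer (zc (KQ L S Z Q (z o)) : Set G)), (phi hg • zK).val = g * z q * g⁻¹ :=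
    fun hg => rfl
  refine ⟨w, Wp_le hw, w2, Wp_le hw2, fun h => ?_, fun h => ?_, fun h => ?_⟩
  · apply hb1
    apply hC b hb
    rw [← hwb]
    exact Md.ext (by rw [hv, h]; rfl)
  · apply hb'ne
    apply hC b' hb'
    rw [← hw2b]
    exact Md.ext (by rw [hv, h]; rfl)
  · apply hne
    have h5 : b⁻¹ * b' = 1 := by
      apply hC _ (mul_mem (inv_mem hb) hb')
      rw [mul_smul, inv_smul_eq_iff, ← hwb, ← hw2b]
      exact Md.ext (by rw [hv, hv, h])
    exact (inv_mul_eq_one.mp h5).symm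

end

/-- **THEOREM C for `F ≤ L`.** -/
theorem le_CE_aux [Finite G] {S : Sylow 2 G} {F L : G → Subgroup G} (hf : Fn F L) :
    ∀ (n : ℕ) (Q : Subgroup G) (ι : Type) (_ : Finite ι) (Z : ι → Subgroup G) (x z : ι → G),
    Nat.card ι = n → Dat S Q Z x z → (∀ l, F (z l) ≤ CE S Z) → ∀ o, L (z o) ≤ CE S Z := by
  intro n
  induction n using Nat.strong_induction_on with
  | _ n ih =>
  intro Q ι _ Z x z hn D hE o
  have := Fintype.ofFinite ι
  by_contra hne
  obtain ⟨q, w, hw, hwN, star, τ, r, w1, hw1, w2, hw2, n1, n2, n3⟩ := step hf D hE hne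
  obtain ⟨s, hs, hτ⟩ := D.mem_TT.mp r.mem
  have h6 := r.six hs hτ
  have hso : D.sg s o = q := by
    have := r.map
    rwa [← hτ, D.sN_phi hs, r.so] at this
  have hsq : D.sg s q = o := by rw [← r.so, r.perm s hs, hso, ← r.so, r.inv]
  -- the conjugating element
  have ez : s * z o * s⁻¹ = z q := by rw [D.z_conj hs, hso]
  have ezq : s * z q * s⁻¹ = z o := by rw [D.z_conj hs, hsq]
  have ew : w * z o * w⁻¹ = z o := mem_cs'.mp (hf.LC _ hw)
  have ewq : w * z q * w⁻¹ = z o * z q := by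
    have h1 := r.zo
    rw [← hτ, r.so] at h1
    have h2 := congrArg Md.val h1
    rw [Md.val_add, Dat.val_zE, Dat.val_zE] at h2
    have h3 : (((phi (norE hwN) * phi (D.S_le_nor_E hs)) • D.zE o).val : G) = w * (s * z o * s⁻¹) * w⁻¹ := by
      rw [mul_smul]; rfl
    rw [h3, ez] at h2
    exact h2
  have hqo : q ≠ o := by
    intro h
    have h1 := r.ne o
    rw [r.so] at h1
    exact h1 h
  -- `F (z_b)` centralises `E`, for all blocks
  have hFb : ∀ l, F (z l * z (star l)) ≤ CE S Z := by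
    intro l
    obtain ⟨t, ht, htl⟩ := D.trans o l
    have h1 := D.sg_eq' ht htl
    have h2 : t * (w * z q * w⁻¹) * t⁻¹ = z l * z (star l) := by
      calc t * (w * z q * w⁻¹) * t⁻¹ = (t * z o * t⁻¹) * (t * z q * t⁻¹) := by rw [ewq]; group
        _ = z l * z (star l) := by rw [D.z_conj ht, D.z_conj ht, h1, ← r.so, r.perm t ht, h1]
    have h3 : (t * w) * z q * (t * w)⁻¹ = z l * z (star l) := by rw [← h2]; group
    intro f hf'
    have h4 : (t * w)⁻¹ * (z l * z (star l)) * (t * w)⁻¹⁻¹ = z q := by rw [← h3]; group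
    have h5 := hE q (hf.cF' h4 hf')
    have h6 : t * w ∈ normalizer (zc (S0 (S : Subgroup G) Z) : Set G) := mul_mem (D.S_le_nor_E ht) (norE hwN)
    have h7 := conj_cent_of h6 h5
    have e : t * w * ((t * w)⁻¹ * f * (t * w)⁻¹⁻¹) * (t * w)⁻¹ = f := by group
    rwa [e] at h7
  -- induction
  have hE' : ∀ l : {l : ι // rep h6.inv l = l}, F (z l * z (star l)) ≤
      CE S (fun l : {l : ι // rep h6.inv l = l} => D.Xb star l) := fun l =>
    (hFb l).trans (centralizer_le h6.dat.E_le)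
  have hWb : ∀ u ∈ L (z o * z q), ∃ f ∈ F (z o * z q), ∃ t ∈ (S : Subgroup G), u = f * t := by
    intro u hu
    have key : ∀ l : {l : ι // rep h6.inv l = l}, z l * z (star l) = z o * z q →
        ∃ f ∈ F (z o * z q), ∃ t ∈ (S : Subgroup G), u = f * t := by
      intro l hl
      have h1 := ih (Nat.card {l : ι // rep h6.inv l = l}) (by rw [← hn]; exact D.card_lt h6) _ _ inferInstance
        _ _ _ rfl h6.dat hE' l
      change L (z l * z (star l)) ≤ _ at h1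
      obtain ⟨f, hf', t, ht, -, hft⟩ := mem_KK hf h6.dat hE' (o := l) (mem_inf.mpr ⟨by
        change u ∈ L (z l * z (star l))
        rw [hl]; exact hu, h1 (by rw [hl]; exact hu)⟩)
      refine ⟨f, ?_, t, Dat.S0_le ht, hft⟩
      change f ∈ F (z l * z (star l)) at hf'
      rwa [hl] at hf'
    rcases rep_or h6.inv o with h | h
    · exact key ⟨rep h6.inv o, rep_rep h6.inv o⟩ (by
        change z (rep h6.inv o) * z (star (rep h6.inv o)) = _
        rw [h, r.so])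
    · exact key ⟨rep h6.inv o, rep_rep h6.inv o⟩ (by
        change z (rep h6.inv o) * z (star (rep h6.inv o)) = _
        rw [h, r.inv, r.so, D.zz_comm])
  have hFq : F (z o * z q) ≤ CE S Z := by
    have := hFb o
    rwa [r.so] at this
  set g := s * w * s⁻¹ with hg
  have es : s⁻¹ * z q * s = z o := by rw [← ez]; group
  have es' : s⁻¹ * z o * s = z q := by rw [← ezq]; group
  have hgq : g * z q * g⁻¹ = z q := by
    calc g * z q * g⁻¹ = s * (w * (s⁻¹ * z q * s) * w⁻¹) * s⁻¹ := by rw [hg]; group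
      _ = z q := by rw [es, ew, ez]
  have hgo : g * z o * g⁻¹ = z o * z q := by
    calc g * z o * g⁻¹ = s * (w * (s⁻¹ * z o * s) * w⁻¹) * s⁻¹ := by rw [hg]; group
      _ = s * (z o * z q) * s⁻¹ := by rw [es', ewq]
      _ = (s * z o * s⁻¹) * (s * z q * s⁻¹) := by group
      _ = z o * z q := by rw [ez, ezq, D.zz_comm]
  -- the orbit of `z q` under `S ∩ C(z_b)`
  have orb₀ : ∀ u ∈ (S : Subgroup G), u * (z o * z q) * u⁻¹ = z o * z q → u * z q * u⁻¹ = z o ∨ u * z q * u⁻¹ = z q := by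
    intro u hu hf
    rw [D.z_conj hu]
    by_cases h1 : D.sg u q = o
    · left; rw [h1]
    by_cases h2 : D.sg u q = q
    · right; rw [h2]
    exfalso
    have h3 : z (D.sg u o) * z (D.sg u q) = z o * z q := by
      rw [← D.z_conj hu, ← D.z_conj hu, ← hf]; group
    have h4 : D.sg u q ≠ D.sg u o := by
      intro h
      apply hqo
      have := congrArg (D.sg u⁻¹) h
      rwa [← D.sg_mul (inv_mem hu) hu, ← D.sg_mul (inv_mem hu) hu, inv_mul_cancel, D.sg_one, D.sg_one] at this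
    have h5 := congrArg (ThmC.pr (x (D.sg u q))) h3
    rw [pr_mul (D.xN _) (D.le _ (D.zm _)) (D.le _ (D.zm _)), pr_mul (D.xN _) (D.le _ (D.zm _)) (D.le _ (D.zm _)),
      D.pr_other h4 (D.zm _), D.pr_self (D.zm _), D.pr_other h1 (D.zm _), D.pr_other h2 (D.zm _), one_mul,
      one_mul] at h5
    exact D.z1 _ h5
  have orb : ∀ u ∈ L (z o * z q), u * z q * u⁻¹ = z o ∨ u * z q * u⁻¹ = z q := by
    intro u hu
    obtain ⟨f, hfF, t, ht, rfl⟩ := hWb u hu
    have h1 : f * t * (z o * z q) * (f * t)⁻¹ = z o * z q := mem_cs'.mp (hf.LC _ hu)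
    have h2 : f * (z o * z q) * f⁻¹ = z o * z q := mem_cs'.mp (hf.LC _ (hf.FL _ hfF))
    have h3 : t * (z o * z q) * t⁻¹ = z o * z q := by
      calc t * (z o * z q) * t⁻¹ = f⁻¹ * (f * t * (z o * z q) * (f * t)⁻¹) * f := by group
        _ = f⁻¹ * (f * (z o * z q) * f⁻¹) * f := by rw [h1, h2]
        _ = z o * z q := by group
    have hfE : ∀ v ∈ zc (S0 (S : Subgroup G) Z), f * v * f⁻¹ = v := fun v hv => by
      rw [← mem_centralizer_iff.mp (hFq hfF) v hv]; group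
    have e : f * t * z q * (f * t)⁻¹ = f * (t * z q * t⁻¹) * f⁻¹ := by group
    rw [e]
    rcases orb₀ t ht h3 with h | h
    · left; rw [h, hfE _ (D.z_mem_E o)]
    · right; rw [h, hfE _ (D.z_mem_E q)]
  have key : ∀ w' ∈ L (z o), w' * z q * w'⁻¹ ≠ z q → w' * z q * w'⁻¹ = g⁻¹ * z o * g := by
    intro w' hw' hne'
    have h1 := hf.cL' hgo hw'
    have h2 := orb _ h1
    have h3 : g * w' * g⁻¹ * z q * (g * w' * g⁻¹)⁻¹ = g * (w' * z q * w'⁻¹) * g⁻¹ := by
      calc g * w' * g⁻¹ * z q * (g * w' * g⁻¹)⁻¹ = g * w' * (g⁻¹ * z q * g) * w'⁻¹ * g⁻¹ := by group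
        _ = g * w' * (g⁻¹ * (g * z q * g⁻¹) * g) * w'⁻¹ * g⁻¹ := by rw [hgq]
        _ = _ := by group
    rw [h3] at h2
    rcases h2 with h2 | h2
    · rw [← h2]; group
    · exfalso
      apply hne'
      calc w' * z q * w'⁻¹ = g⁻¹ * (g * (w' * z q * w'⁻¹) * g⁻¹) * g := by group
        _ = g⁻¹ * (g * z q * g⁻¹) * g := by rw [h2, hgq]
        _ = z q := by group
  exact n3 ((key w1 hw1 n1).trans (key w2 hw2 n2).symm)

/-- **THEOREM C for `F ≤ L`.** -/
theorem le_CE [Finite G] {S : Sylow 2 G} {F L : G → Subgroup G} (hf : Fn F L) {Q : Subgroup G} {ι : Type} [Finite ι]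
    {Z : ι → Subgroup G} {x z : ι → G} (D : Dat S Q Z x z) (hE : ∀ l, F (z l) ≤ CE S Z) (o : ι) :
    L (z o) ≤ CE S Z := le_CE_aux hf _ Q ι ‹_› Z x z rfl D hE o

end Cfsg.Agent.Omega.IId.Red
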