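import Cfsg.Agent.Omega.ThmC.TwoOf

/-!
# 2-groups modulo a normal subgroup (for `#17245` (2))

* `exists_normalizer_mod` : normalisers grow in `A` if every element of `A` has a 2-power in `F ≤ B ≤ A`;
* `two_sup` : `A L` has this property if `A` is a 2-group and `L` has it;
* `mod_le` : `H = F (P ∩ H)` for `P` of odd index in `P H`;
* `exists_conj_odd` : Sylow's theorem for a 2-subgroup `P` of odd index.
-/

set_option autoImplicit false

namespace Cfsg.Agent.Omega.IId.Red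

open Subgroup
open scoped Pointwise

universe u

variable {G : Type u} [Group G]

/-- every element of `A` has a 2-power in `F`. -/
def TwoMod (F A : Subgroup G) : Prop := ∀ g ∈ A, ∃ n : ℕ, g ^ 2 ^ n ∈ F

theorem TwoMod.mono {F A B : Subgroup G} (h : TwoMod F A) (hB : B ≤ A) : TwoMod F B := fun g hg => h g (hB hg)

theorem TwoMod.mono' {F F' A : Subgroup G} (h : TwoMod F A) (hF : F ≤ F') : TwoMod F' A := fun g hg => by
  obtain ⟨n, hn⟩ := h g hg
  exact ⟨n, hF hn⟩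

theorem TwoMod.bot {A : Subgroup G} (h : IsPGroup 2 A) : TwoMod (⊥ : Subgroup G) A := fun g hg => by
  obtain ⟨n, hn⟩ := h ⟨g, hg⟩
  exact ⟨n, by
    rw [mem_bot]
    exact congrArg Subtype.val hn⟩

theorem TwoMod.isPGroup {F A : Subgroup G} [(F.subgroupOf A).Normal] (h : TwoMod F A) :
    IsPGroup 2 (A ⧸ F.subgroupOf A) := by
  intro x
  obtain ⟨a, rfl⟩ := QuotientGroup.mk_surjective x
  obtain ⟨n, hn⟩ := h a a.2
  refine ⟨n, ?_⟩
  rw [← QuotientGroup.mk_pow, QuotientGroup.eq_one_iff, mem_subgroupOf]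
  exact hn

theorem normal_of {F A : Subgroup G} (h : A ≤ normalizer (F : Set G)) : (F.subgroupOf A).Normal := by
  refine ⟨fun n hn g => ?_⟩
  rw [mem_subgroupOf] at hn ⊢
  exact (mem_normalizer_iff.mp (h g.2) _).mp hn

/-- normalisers grow modulo `F`. -/
theorem exists_normalizer_mod [Finite G] {A B F : Subgroup G} (hFB : F ≤ B) (hBA : B ≤ A)
    (hn : A ≤ normalizer (F : Set G)) (h2 : TwoMod F A) (hne : ¬ A ≤ B) :
    ∃ n ∈ A, n ∉ B ∧ n ∈ normalizer (B : Set G) := by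
  have : Fact (Nat.Prime 2) := ⟨Nat.prime_two⟩
  have := normal_of hn
  have hP := h2.isPGroup
  have : Group.IsNilpotent (A ⧸ F.subgroupOf A) := hP.isNilpotent
  set π := QuotientGroup.mk' (F.subgroupOf A) with hπ
  set B' := (B.subgroupOf A).map π with hB'
  have key : ∀ a : A, π a ∈ B' → (a : G) ∈ B := by
    rintro a ⟨b, hb, hba⟩
    have h3 : b⁻¹ * a ∈ F.subgroupOf A := QuotientGroup.eq.mp hba
    have h4 : ((b⁻¹ * a : A) : G) ∈ B := hFB h3
    have h5 : (a : G) = (b : G) * ((b⁻¹ * a : A) : G) := by simp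
    rw [h5]
    exact mul_mem hb h4
  have h1 : B' < ⊤ := by
    rw [lt_top_iff_ne_top]
    intro h
    apply hne
    intro a ha
    exact key ⟨a, ha⟩ (by rw [h]; trivial)
  have h2' := Group.normalizerCondition_of_isNilpotent (G := A ⧸ F.subgroupOf A) _ h1
  obtain ⟨n', hn', hn2'⟩ := SetLike.exists_of_lt h2'
  obtain ⟨n, rfl⟩ := QuotientGroup.mk_surjective n'
  change π n ∈ _ at hn'
  refine ⟨n, n.2, fun h => hn2' ⟨n, h, rfl⟩, ?_⟩
  rw [mem_normalizer_iff]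
  intro b
  have h3 := mem_normalizer_iff.mp hn'
  constructor
  · intro hb
    have h4 := (h3 (π ⟨b, hBA hb⟩)).mp ⟨⟨b, hBA hb⟩, hb, rfl⟩
    rw [← map_mul, ← map_inv, ← map_mul] at h4
    exact key _ h4
  · intro hb
    have hb2 : b ∈ A := by
      have := mul_mem (mul_mem (inv_mem n.2) (hBA hb)) n.2
      have h4 : (n : G)⁻¹ * (n * b * (n : G)⁻¹) * n = b := by group
      rwa [h4] at this
    have h4 := (h3 (π ⟨b, hb2⟩)).mpr (by
      rw [← map_mul, ← map_inv, ← map_mul]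
      exact ⟨_, hb, rfl⟩)
    exact key _ h4

/-- `A L` for a 2-group `A`. -/
theorem two_sup {A L F : Subgroup G} (hA : IsPGroup 2 A) (hAL : A ≤ normalizer (L : Set G)) (h2 : TwoMod F L) :
    TwoMod F (A ⊔ L) := by
  intro g hg
  have h1 : g ∈ (A : Set G) * (L : Set G) := by
    rw [← coe_mul_of_left_le_normalizer_right A L hAL]
    exact hg
  obtain ⟨a, ha, l, hl, rfl⟩ := h1
  have key : ∀ j : ℕ, ∃ m ∈ L, (a * l) ^ j = a ^ j * m := by
    intro j
    induction j with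
    | zero => exact ⟨1, one_mem _, by simp⟩
    | succ j ih =>
      obtain ⟨m, hm, h⟩ := ih
      refine ⟨a⁻¹ * m * a * l, mul_mem ?_ hl, ?_⟩
      · have := (mem_normalizer_iff.mp (hAL (inv_mem ha)) m).mp hm
        rwa [inv_inv] at this
      · rw [pow_succ, h, pow_succ]
        group
  obtain ⟨n, hn⟩ := hA ⟨a, ha⟩
  have hn' : a ^ 2 ^ n = 1 := congrArg Subtype.val hn
  obtain ⟨m, hm, h⟩ := key (2 ^ n)
  rw [hn', one_mul] at h
  obtain ⟨n', hn''⟩ := h2 m hm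
  exact ⟨n + n', by rw [pow_add, pow_mul]; change ((a * l) ^ 2 ^ n) ^ 2 ^ n' ∈ F; rw [h]; exact hn''⟩

/-- `F` has 2-power index in `A`. -/
theorem relIndex_two [Finite G] {F A : Subgroup G} (hn : A ≤ normalizer (F : Set G)) (h2 : TwoMod F A) :
    ∃ n : ℕ, F.relIndex A = 2 ^ n := by
  have : Fact (Nat.Prime 2) := ⟨Nat.prime_two⟩
  have := normal_of hn
  obtain ⟨n, hn⟩ := IsPGroup.iff_card.mp h2.isPGroup
  exact ⟨n, hn⟩

/-- `H = F (P ∩ H)`. -/
theorem mod_le [Finite G] {F P H : Subgroup G} (hFH : F ≤ H) (hn : H ≤ normalizer (F : Set G)) (h2 : TwoMod F H)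
    (hPH : P ≤ normalizer (H : Set G)) (hodd : ¬ 2 ∣ P.relIndex (P ⊔ H)) : H ≤ F ⊔ (P ⊓ H) := by
  have h1 : ¬ 2 ∣ (P ⊓ H).relIndex H :=
    ThmC.TwoOf.not_dvd_relIndex_inf le_sup_left le_sup_right (sup_le hPH le_normalizer) hodd
  have hM : F ⊔ (P ⊓ H) ≤ H := sup_le hFH inf_le_right
  have h3 : (F ⊔ (P ⊓ H)).relIndex H ∣ (P ⊓ H).relIndex H :=
    ⟨(P ⊓ H).relIndex (F ⊔ (P ⊓ H)), by rw [mul_comm, relIndex_mul_relIndex _ _ _ le_sup_right hM]⟩
  have h4 : (F ⊔ (P ⊓ H)).relIndex H ∣ F.relIndex H :=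
    ⟨F.relIndex (F ⊔ (P ⊓ H)), by rw [mul_comm, relIndex_mul_relIndex _ _ _ le_sup_left hM]⟩
  obtain ⟨n, hn⟩ := relIndex_two hn h2
  rw [hn] at h4
  obtain ⟨m, -, hm⟩ := (Nat.dvd_prime_pow Nat.prime_two).mp h4
  rcases Nat.eq_zero_or_pos m with h0 | h0
  · rw [h0, pow_zero] at hm
    exact relIndex_eq_one.mp hm
  · exact absurd ((dvd_pow_self 2 h0.ne').trans (hm ▸ h3)) h1

/-- Sylow's theorem for `P` of odd index in `J`. -/
theorem exists_conj_odd [Finite G] {P J Y : Subgroup G} (hP : IsPGroup 2 P) (hPJ : P ≤ J)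
    (hodd : ¬ 2 ∣ P.relIndex J) (hY : IsPGroup 2 Y) (hYJ : Y ≤ J) : ∃ j ∈ J, ∀ y ∈ Y, j * y * j⁻¹ ∈ P := by
  have : Fact (Nat.Prime 2) := ⟨Nat.prime_two⟩
  have hP' : IsPGroup 2 (P.subgroupOf J) := hP.comap_of_injective J.subtype J.subtype_injective
  have hY' : IsPGroup 2 (Y.subgroupOf J) := hY.comap_of_injective J.subtype J.subtype_injective
  obtain ⟨R, hR⟩ := hY'.exists_le_sylow
  let P' : Sylow 2 J := hP'.toSylow hodd
  obtain ⟨g, hg⟩ := MulAction.exists_smul_eq J R P'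
  refine ⟨g, g.2, fun y hy => ?_⟩
  have h1 : (⟨y, hYJ hy⟩ : J) ∈ R := hR hy
  have h2 : g * ⟨y, hYJ hy⟩ * g⁻¹ ∈ (g • R : Sylow 2 J) := by
    rw [Sylow.smul_def]
    exact Subgroup.smul_mem_pointwise_smul _ (MulAut.conj g) _ h1
  rw [hg] at h2
  exact h2

end Cfsg.Agent.Omega.IId.Red
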