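import Cfsg.Agent.Omega.IId.Red.FunEnd

/-!
# The pair of functors of a normal subgroup `K` of `C_G(p)` (`#17245` (2))

`Fun K p v` : the conjugate `K^g` for `v = p^g` (`⊥` if `v` is not conjugate to `p`).

`Dat.red` : `D : ThmC.Dat S Q Z x z`, `N ≥ Ω₁Z(S⁰)`, `K ⊴ C_G(z o)`, every element of `K` has a 2-power in `C_G(N)`:
`K` centralises `z l` and `(z l)^(x l)`, `((z l)^(x l))^(x l)`, `l ≠ o`.
-/

set_option autoImplicit false
set_option linter.unusedSectionVars false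

namespace Cfsg.Agent.Omega.IId.Red

open scoped Pointwise
open Subgroup Cfsg Cfsg.Agent.MinSimple.VModule
open Cfsg.Agent.ZN (zc o2)
open Cfsg.Agent.Omega.IITwo.Count (conj_mem conj_mem' mem_norm)
open Cfsg.Agent.Omega.ThmC

universe u

variable {G : Type u} [Group G]

/-- `K^g` for `v = p^g`. -/
def Fun (K : Subgroup G) (p v : G) : Subgroup G :=
  closure {w | ∃ g k, g * p * g⁻¹ = v ∧ k ∈ K ∧ w = g * k * g⁻¹}

section Fun
variable {K : Subgroup G} {p : G} (hK : ∀ c, c * p * c⁻¹ = p → ∀ k ∈ K, c * k * c⁻¹ ∈ K)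

include hK in
theorem mem_Fun {g v w : G} (hg : g * p * g⁻¹ = v) : w ∈ Fun K p v ↔ g⁻¹ * w * g ∈ K := by
  constructor
  · intro hw
    have h1 : Fun K p v ≤ K.map (MulAut.conj g).toMonoidHom := by
      rw [Fun, closure_le]
      rintro _ ⟨h, k, hh, hk, rfl⟩
      refine ⟨g⁻¹ * h * k * (g⁻¹ * h)⁻¹, hK _ ?_ k hk, ?_⟩
      · calc g⁻¹ * h * p * (g⁻¹ * h)⁻¹ = g⁻¹ * (h * p * h⁻¹) * g := by group
          _ = p := by rw [hh, ← hg]; group
      · show g * (g⁻¹ * h * k * (g⁻¹ * h)⁻¹) * g⁻¹ = _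
        group
    obtain ⟨k, hk, rfl⟩ := h1 hw
    have e : g⁻¹ * ((MulAut.conj g).toMonoidHom k) * g = k := by
      show g⁻¹ * (g * k * g⁻¹) * g = k
      group
    rw [e]
    exact hk
  · intro hw
    exact subset_closure ⟨g, _, hg, hw, by group⟩

theorem Fun_bot {v w : G} (hv : ¬ ∃ g, g * p * g⁻¹ = v) (hw : w ∈ Fun K p v) : w = 1 := by
  have h1 : {w | ∃ g k, g * p * g⁻¹ = v ∧ k ∈ K ∧ w = g * k * g⁻¹} = ∅ := by
    rw [Set.eq_empty_iff_forall_notMem]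
    rintro w ⟨g, k, hg, -, -⟩
    exact hv ⟨g, hg⟩
  rw [Fun, h1, Subgroup.closure_empty] at hw
  exact mem_bot.1 hw

include hK in
theorem mem_Fun_self {w : G} : w ∈ Fun K p p ↔ w ∈ K := by
  rw [mem_Fun hK (g := 1) (by group)]
  simp

include hK in
theorem Fun_conj {g v w : G} (hw : w ∈ Fun K p v) : g * w * g⁻¹ ∈ Fun K p (g * v * g⁻¹) := by
  by_cases hv : ∃ h, h * p * h⁻¹ = v
  · obtain ⟨h, hh⟩ := hv
    rw [mem_Fun hK hh] at hw
    rw [mem_Fun hK (g := g * h) (by rw [← hh]; group)]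
    have e : (g * h)⁻¹ * (g * w * g⁻¹) * (g * h) = h⁻¹ * w * h := by group
    rwa [e]
  · rw [Fun_bot hv hw]
    have e : g * 1 * g⁻¹ = (1 : G) := by group
    rw [e]
    exact one_mem _

end Fun

/-- the pair of functors. -/
theorem fn_of {K₀ K : Subgroup G} {p : G} (h0 : K₀ ≤ K) (hK : ∀ c, c * p * c⁻¹ = p → ∀ k ∈ K, c * k * c⁻¹ ∈ K)
    (hK₀ : ∀ c, c * p * c⁻¹ = p → ∀ k ∈ K₀, c * k * c⁻¹ ∈ K₀) (hc : K ≤ centralizer {p}) (h2 : TwoMod K₀ K) :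
    Fn (Fun K₀ p) (Fun K p) where
  FL v := by
    intro w hw
    by_cases hv : ∃ h, h * p * h⁻¹ = v
    · obtain ⟨h, hh⟩ := hv
      rw [mem_Fun hK hh]
      rw [mem_Fun hK₀ hh] at hw
      exact h0 hw
    · rw [Fun_bot hv hw]
      exact one_mem _
  LC v := by
    intro w hw
    by_cases hv : ∃ h, h * p * h⁻¹ = v
    · obtain ⟨h, hh⟩ := hv
      rw [mem_Fun hK hh] at hw
      have h1 := mem_cs'.mp (hc hw)
      rw [mem_cs']
      calc w * v * w⁻¹ = h * ((h⁻¹ * w * h) * p * (h⁻¹ * w * h)⁻¹) * h⁻¹ := by rw [← hh]; group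
        _ = v := by rw [h1, hh]
    · rw [Fun_bot hv hw]
      exact one_mem _
  two v := by
    intro w hw
    by_cases hv : ∃ h, h * p * h⁻¹ = v
    · obtain ⟨h, hh⟩ := hv
      rw [mem_Fun hK hh] at hw
      obtain ⟨n, hn⟩ := h2 _ hw
      refine ⟨n, ?_⟩
      rw [mem_Fun hK₀ hh]
      have e : (h⁻¹ * w * h) ^ 2 ^ n = h⁻¹ * w ^ 2 ^ n * h := by
        have := conj_pow (i := 2 ^ n) (a := h⁻¹) (b := w)
        rwa [inv_inv] at this
      rwa [e] at hn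
    · refine ⟨0, ?_⟩
      rw [Fun_bot hv hw, one_pow]
      exact one_mem _
  cF _ _ _ hw := Fun_conj hK₀ hw
  cL _ _ _ hw := Fun_conj hK hw

/-- **`#17245` (2) on the DATA (W).** -/
theorem red_dat [Finite G] {S : Sylow 2 G} {Q : Subgroup G} {ι : Type} [Finite ι] {Z : ι → Subgroup G} {x z : ι → G}
    (D : Dat S Q Z x z) (o : ι) {K : Subgroup G} (hc : K ≤ centralizer {z o})
    (hK : ∀ c ∈ centralizer ({z o} : Set G), ∀ k ∈ K, c * k * c⁻¹ ∈ K) {N : Subgroup G}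
    (hE : zc (S0 (S : Subgroup G) Z) ≤ N) (hN : ∀ c ∈ centralizer ({z o} : Set G), ∀ n ∈ N, c * n * c⁻¹ ∈ N)
    (h2 : TwoMod (centralizer (N : Set G)) K) : K ≤ CE S Z := by
  have hK' : ∀ c, c * z o * c⁻¹ = z o → ∀ k ∈ K, c * k * c⁻¹ ∈ K := fun c h => hK c (mem_cs'.mpr h)
  have hK₀ : ∀ c, c * z o * c⁻¹ = z o → ∀ k ∈ K ⊓ centralizer (N : Set G), c * k * c⁻¹ ∈ K ⊓ centralizer (N : Set G) := by
    intro c h k hk
    have h1 : c ∈ normalizer (N : Set G) := mem_norm (hN c (mem_cs'.mpr h))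
    exact mem_inf.mpr ⟨hK' c h k (mem_inf.mp hk).1, conj_cent_of h1 (mem_inf.mp hk).2⟩
  have hf : Fn (Fun (K ⊓ centralizer (N : Set G)) (z o)) (Fun K (z o)) :=
    fn_of inf_le_left hK' hK₀ hc fun k hk => by
      obtain ⟨n, hn⟩ := h2 k hk
      exact ⟨n, mem_inf.mpr ⟨pow_mem hk _, hn⟩⟩
  have h3 := le_CE hf D (fun l w hw => by
    obtain ⟨s, hs, hsl⟩ := D.trans o l
    have h4 : s * z o * s⁻¹ = z l := by rw [D.z_conj hs, D.sg_eq' hs hsl]
    rw [mem_Fun hK₀ h4] at hw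
    have h5 : s⁻¹ * w * s ∈ CE S Z := centralizer_le hE (mem_inf.mp hw).2
    have h6 := conj_cent_of (D.S_le_nor_E hs) h5
    have e : s * (s⁻¹ * w * s) * s⁻¹ = w := by group
    rwa [e] at h6) o
  intro k hk
  exact h3 ((mem_Fun_self hK').mpr hk)

end Cfsg.Agent.Omega.IId.Red
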