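import Cfsg.Agent.Omega.IId.Red.Fun
import Cfsg.Agent.Omega.ThmC.TwoStep

/-!
# THEOREM C for a pair of functors, step (2): the weights

`wdat` : `W'/KK` acting on `Ω₁Z(KQ)` satisfies `TwoW.WDat`; `exists_nor` : an element of `W'` commuting with `S⁰` on
`Ω₁Z(KQ)` normalises `S⁰` up to an element of `KK`.
-/

set_option autoImplicit false
set_option linter.unusedSectionVars false

namespace Cfsg.Agent.Omega.IId.Red

open scoped Pointwise
open Subgroup Cfsg Cfsg.Agent.MinSimple.VModule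
open Cfsg.Agent.ZN (zc o2)
open Cfsg.Agent.Omega.IITwo.Count (conj_mem conj_mem' mem_norm)
open Cfsg.Agent.Omega.ThmC

universe u

variable {G : Type u} [Group G]

/-- a group of elements with 2-powers acting trivially has a 2-group as image. -/
theorem img_isPGroup' {X Y F : Subgroup G} (hY : TwoMod F Y) (hF : F ≤ centralizer (zc X : Set G)) :
    IsPGroup 2 (img X Y) := by
  rintro ⟨n, hn⟩
  obtain ⟨g, hg, hgY, rfl⟩ := mem_img.mp hn
  obtain ⟨m, hm⟩ := hY g hgY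
  refine ⟨m, Subtype.ext ?_⟩
  change phi hg ^ 2 ^ m = 1
  rw [pow_phi, phi_eq_one_iff]
  exact hF hm

section
variable {S : Sylow 2 G} {Q : Subgroup G} {ι : Type} {Z : ι → Subgroup G} {x z : ι → G}
variable {F L : G → Subgroup G} [Finite G] [Finite ι] (hf : Fn F L) (D : Dat S Q Z x z)
  (hE : ∀ l, F (z l) ≤ CE S Z) {o : ι}

open Classical in
/-- `x l` on `Ω₁Z(KQ)`. -/
noncomputable def xh (hf : Fn F L) (D : Dat S Q Z x z) (hE : ∀ l, F (z l) ≤ CE S Z) (o l : ι) :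
    ↥(NG (KQ L S Z Q (z o))) :=
  if h : l ≠ o then phi (x_nor_ZK hf D hE h) else 1

include hf hE in
theorem xh_eq {l : ι} (h : l ≠ o) : xh hf D hE o l = phi (x_nor_ZK hf D hE h) := dif_pos h

/-- the projections on `Ω₁Z(KQ)`. -/
abbrev pK (hf : Fn F L) (D : Dat S Q Z x z) (hE : ∀ l, F (z l) ≤ CE S Z) (o l : ι) :
    Md (KQ L S Z Q (z o)) →+ Md (KQ L S Z Q (z o)) := D.pX (ZK_le D) (pr_ZK hf D hE) l

theorem Ux {u : ↥(NG (KQ L S Z Q (z o)))} (hu : u ∈ img (KQ L S Z Q (z o)) (S0 (S : Subgroup G) Z)) {l : ι}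
    (hl : l ≠ o) : u * xh hf D hE o l * u⁻¹ = xh hf D hE o l ∨ u * xh hf D hE o l * u⁻¹ = (xh hf D hE o l)⁻¹ := by
  obtain ⟨s, hsN, hs, rfl⟩ := mem_img.mp hu
  rw [xh_eq hf D hE hl, phi_mul, phi_inv, phi_mul, phi_inv, phi_eq_iff, phi_eq_iff]
  have h1 := (D.sg_spec (Dat.S0_le hs) l).2
  rw [(D.mem_S0_iff (Dat.S0_le hs)).mp hs l] at h1
  rcases h1 with h1 | h1
  · exact Or.inl fun v hv => h1 v (ZK_le D hv)
  · exact Or.inr fun v hv => by rw [inv_inv]; exact h1 v (ZK_le D hv)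

/-- the elements of `W'` commuting with all `x l`, `l ≠ o`, on `Ω₁Z(KQ)`. -/
def CX (L : G → Subgroup G) (S : Sylow 2 G) (Z : ι → Subgroup G) (Q : Subgroup G) (x z : ι → G) (o : ι) :
    Subgroup G where
  carrier := {g | g ∈ Wp L S Z Q (z o) ∧ ∀ l, l ≠ o → ∀ v ∈ zc (KQ L S Z Q (z o)),
    g * (x l * v * (x l)⁻¹) * g⁻¹ = x l * (g * v * g⁻¹) * (x l)⁻¹}
  one_mem' := ⟨one_mem _, fun l _ v _ => by group⟩
  mul_mem' := by
    rintro a b ⟨ha1, ha2⟩ ⟨hb1, hb2⟩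
    refine ⟨mul_mem ha1 hb1, fun l hl v hv => ?_⟩
    have h1 := hb2 l hl v hv
    have h2 := ha2 l hl _ (conj_mem (Wp_nor_ZK hb1) hv)
    calc a * b * (x l * v * (x l)⁻¹) * (a * b)⁻¹ = a * (b * (x l * v * (x l)⁻¹) * b⁻¹) * a⁻¹ := by group
      _ = x l * (a * (b * v * b⁻¹) * a⁻¹) * (x l)⁻¹ := by rw [h1, h2]
      _ = _ := by group
  inv_mem' := by
    rintro a ⟨ha1, ha2⟩
    refine ⟨inv_mem ha1, fun l hl v hv => ?_⟩
    have h2 := ha2 l hl _ (conj_mem (Wp_nor_ZK (inv_mem ha1)) hv)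
    calc a⁻¹ * (x l * v * (x l)⁻¹) * a⁻¹⁻¹ =
        a⁻¹ * (x l * (a * (a⁻¹ * v * a⁻¹⁻¹) * a⁻¹) * (x l)⁻¹) * a := by group
      _ = a⁻¹ * (a * (x l * (a⁻¹ * v * a⁻¹⁻¹) * (x l)⁻¹) * a⁻¹) * a := by rw [h2]
      _ = _ := by group

theorem mem_CX {g : G} : g ∈ CX L S Z Q x z o ↔ g ∈ Wp L S Z Q (z o) ∧ ∀ l, l ≠ o →
    ∀ v ∈ zc (KQ L S Z Q (z o)), g * (x l * v * (x l)⁻¹) * g⁻¹ = x l * (g * v * g⁻¹) * (x l)⁻¹ := Iff.rfl

theorem mem_CX' {g : G} (hg : g ∈ Wp L S Z Q (z o)) :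
    g ∈ CX L S Z Q x z o ↔ ∀ l, l ≠ o → phi (Wp_nor_ZK hg) * xh hf D hE o l = xh hf D hE o l * phi (Wp_nor_ZK hg) := by
  rw [mem_CX]
  constructor
  · rintro ⟨-, h⟩ l hl
    rw [xh_eq hf D hE hl, phi_mul, phi_mul, phi_eq_iff]
    intro v hv
    calc g * x l * v * (g * x l)⁻¹ = g * (x l * v * (x l)⁻¹) * g⁻¹ := by group
      _ = _ := h l hl v hv
      _ = _ := by group
  · intro h
    refine ⟨hg, fun l hl v hv => ?_⟩
    have h1 := h l hl
    rw [xh_eq hf D hE hl, phi_mul, phi_mul, phi_eq_iff] at h1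
    calc g * (x l * v * (x l)⁻¹) * g⁻¹ = g * x l * v * (g * x l)⁻¹ := by group
      _ = _ := h1 v hv
      _ = _ := by group

include hf D hE in
theorem S0_nor_CX : S0 (S : Subgroup G) Z ≤ normalizer (CX L S Z Q x z o : Set G) := by
  intro s hs
  refine mem_norm fun g hg => ?_
  have hgW : g ∈ Wp L S Z Q (z o) := (mem_CX.mp hg).1
  have hgN := Wp_nor_ZK hgW
  have hsN := S0_nor_ZK hf D (o := o) hs
  rw [mem_CX' hf D hE hgW] at hg
  rw [mem_CX' hf D hE (S0_conj_Wp hf D hs hgW)]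
  intro l hl
  have h1 : phi (Wp_nor_ZK (S0_conj_Wp hf D hs hgW)) = phi hsN * phi hgN * (phi hsN)⁻¹ := by
    rw [phi_mul, phi_inv, phi_mul]
  rw [h1]
  have hc : Commute (phi hgN) (xh hf D hE o l) := hg l hl
  have hu : (phi hsN)⁻¹ ∈ img (KQ L S Z Q (z o)) (S0 (S : Subgroup G) Z) := inv_mem (phi_mem_img hsN hs)
  have h2 : Commute (phi hgN) ((phi hsN)⁻¹ * xh hf D hE o l * (phi hsN)⁻¹⁻¹) := by
    rcases Ux hf D hE hu hl with h | h
    · rw [h]; exact hc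
    · rw [h]; exact hc.inv_right
  have h3 := (Commute.conj_iff (phi hsN)).mpr h2
  have h4 : phi hsN * ((phi hsN)⁻¹ * xh hf D hE o l * (phi hsN)⁻¹⁻¹) * (phi hsN)⁻¹ = xh hf D hE o l := by group
  rw [h4] at h3
  exact h3

include D in
/-- `KK ≤ CX`. -/
theorem KK_le_CX (hx : ∀ l, l ≠ o → x l ∈ normalizer (zc (KQ L S Z Q (z o)) : Set G)) :
    KK L S Z (z o) ≤ CX L S Z Q x z o := by
  intro g hg
  refine mem_CX.mpr ⟨KK_le_Wp hg, fun l hl v hv => ?_⟩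
  have h1 : ∀ v ∈ zc (KQ L S Z Q (z o)), g * v * g⁻¹ = v := fun v hv => by
    rw [← mem_centralizer_iff.mp (KK_le_C hg) v hv]; group
  rw [h1 v hv, h1 _ (conj_mem (hx l hl) hv)]

include hf D hE in
/-- `c ∈ C_{W'}(D)` centralises `E`. -/
theorem CX_le [Fintype ι] : CX L S Z Q x z o ≤ CE S Z := by
  by_contra hne
  have hKX : KK L S Z (z o) ≤ CX L S Z Q x z o := KK_le_CX D fun l hl => x_nor_ZK hf D hE hl
  have hX2 : TwoMod (F (z o)) (CX L S Z Q x z o) := (hf.two _).mono fun g hg => Wp_le (mem_CX.mp hg).1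
  have hA : TwoMod (F (z o)) (S0 (S : Subgroup G) Z ⊔ CX L S Z Q x z o) :=
    two_sup (S.2.to_le Dat.S0_le) (S0_nor_CX hf D hE) hX2
  have hBA : KS L S Z (z o) ≤ S0 (S : Subgroup G) Z ⊔ CX L S Z Q x z o :=
    sup_le (hKX.trans le_sup_right) le_sup_left
  obtain ⟨n, hn, hn1, hn2⟩ := exists_normalizer_mod ((F_le_KK hf hE).trans KK_le_KS) hBA
    ((sup_le D.S0_le_C ((fun g hg => hf.LC _ (Wp_le (mem_CX.mp hg).1)))).trans (hf.nF _)) hA
    (fun h => hne ((le_sup_right.trans h).trans KS_le_CE))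
  have h1 : n ∈ (S0 (S : Subgroup G) Z : Set G) * (CX L S Z Q x z o : Set G) := by
    rw [← coe_mul_of_left_le_normalizer_right _ _ (S0_nor_CX hf D hE)]
    exact hn
  obtain ⟨s, hs, c, hc, rfl⟩ := h1
  have hcN : c ∈ normalizer (KS L S Z (z o) : Set G) := by
    have := mul_mem (inv_mem (le_normalizer (S0_le_KS hs))) hn2
    simpa using this
  have hcW : c ∈ Wp L S Z Q (z o) := (mem_CX.mp hc).1
  have hcS : c ∉ CE S Z := fun h => hn1 (mul_mem (S0_le_KS hs) (KK_le_KS (mem_inf.mpr ⟨Wp_le hcW, h⟩)))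
  apply hcS
  have hcE : c ∈ normalizer (zc (S0 (S : Subgroup G) Z) : Set G) := KS_nor_E D hcN
  have hcK := Wp_nor_ZK hcW
  obtain ⟨n, hn⟩ := hf.two (z o) c (Wp_le hcW)
  rw [← phi_eq_one_iff hcE]
  have hcomm : ∀ l, l ≠ o → ∀ v ∈ zc (KQ L S Z Q (z o)), c * pr (x l) v * c⁻¹ = pr (x l) (c * v * c⁻¹) := by
    intro l hl v hv
    have h1 := (mem_CX.mp hc).2 l hl
    have h2 := h1 v hv
    have h3 := h1 _ (conj_mem (x_nor_ZK hf D hE hl) hv)
    unfold pr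
    rw [← h2, ← h3]; group
  refine TwoN.eq_one D.ndat ⟨n, ?_⟩ ?_
  · rw [pow_phi, phi_eq_one_iff]; exact hE o hn
  · have hl0 : ∀ l, l ≠ o → ∀ a, phi hcE • D.pE l a = D.pE l (phi hcE • a) := by
      intro l hl a
      apply Md.ext
      rw [val_phi, Dat.val_pX, Dat.val_pX, val_phi]
      exact hcomm l hl _ (E_le_ZK D a.val_mem)
    intro l a
    rcases eq_or_ne l o with rfl | hl
    · classical
      have h1 := D.pX_sum (hX := D.E_le) (h := D.pr_E) a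
      have h2 := D.pX_sum (hX := D.E_le) (h := D.pr_E) (phi hcE • a)
      rw [← Finset.add_sum_erase _ _ (Finset.mem_univ l)] at h1 h2
      have h3 := congrArg (fun b => phi hcE • b) h1
      simp only [smul_add, Finset.smul_sum] at h3
      have h4 : ∑ m ∈ Finset.univ.erase l, phi hcE • D.pE m a = ∑ m ∈ Finset.univ.erase l, D.pE m (phi hcE • a) :=
        Finset.sum_congr rfl fun m hm => hl0 m (Finset.ne_of_mem_erase hm) a
      rw [h4] at h3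
      exact add_right_cancel (h3.trans h2.symm)
    · exact hl0 l hl a

theorem wdat [Fintype ι] : TwoW.WDat o (pK hf D hE o) (xh hf D hE o) (img (KQ L S Z Q (z o)) (Wp L S Z Q (z o)))
    (img (KQ L S Z Q (z o)) (S0 (S : Subgroup G) Z)) where
  two := Md.two
  faith _ h := NG_faith h
  idem l a := D.pX_idem l a
  orth l m h a := D.pX_orth h a
  sum a := D.pX_sum a
  px := by
    intro l hl a
    rw [xh_eq hf D hE hl]
    exact Md.ext rfl
  xt := by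
    intro l hl m hm a
    rw [xh_eq hf D hE hl]
    apply Md.ext
    rw [val_phi]
    exact D.triv l m hm.symm _ (D.pX_mem m a)
  H2 := img_isPGroup' ((hf.two _).mono Wp_le) ((F_le_KK hf hE).trans KK_le_C)
  U2 := img_isPGroup (S.2.to_le Dat.S0_le)
  xH := by
    intro l hl h hh
    obtain ⟨w, hwN, hw, rfl⟩ := mem_img.mp hh
    rw [xh_eq hf D hE hl, phi_mul, phi_inv, phi_mul]
    exact phi_mem_img _ (x_conj_Wp hf D hE hl hw)
  UH := by
    intro u hu h hh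
    obtain ⟨w, hwN, hw, rfl⟩ := mem_img.mp hh
    obtain ⟨s, hsN, hs, rfl⟩ := mem_img.mp hu
    rw [phi_mul, phi_inv, phi_mul]
    exact phi_mem_img _ (S0_conj_Wp hf D hs hw)
  Ux := fun u hu l hl => Ux hf D hE hu hl
  Uπ := by
    intro u hu l a
    obtain ⟨s, hsN, hs, rfl⟩ := mem_img.mp hu
    apply Md.ext
    rw [val_phi, Dat.val_pX, Dat.val_pX, val_phi]
    exact D.pr_comm_S0 hs l (ZK_le D a.val_mem)
  CH := by
    intro h hh hc
    obtain ⟨w, hwN, hw, rfl⟩ := mem_img.mp hh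
    have h1 : w ∈ CX L S Z Q x z o := (mem_CX' hf D hE hw).mpr hc
    rw [phi_eq_one_iff]
    exact KK_le_C (mem_inf.mpr ⟨Wp_le hw, CX_le hf D hE h1⟩)

include hf D in
/-- an element of `W'` commuting with `S⁰` on `Ω₁Z(KQ)` normalises `S⁰` up to an element of `KK`. -/
theorem exists_nor {w : G} (hw : w ∈ Wp L S Z Q (z o))
    (h : ∀ u : ↥(NG (KQ L S Z Q (z o))), u ∈ img (KQ L S Z Q (z o)) (S0 (S : Subgroup G) Z) →
      u * phi (Wp_nor_ZK hw) * u⁻¹ = phi (Wp_nor_ZK hw)) :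
    ∃ k ∈ KK L S Z (z o), k * w ∈ normalizer (S0 (S : Subgroup G) Z : Set G) := by
  have h1 : ∀ s ∈ S0 (S : Subgroup G) Z, w * s * w⁻¹ ∈ KS L S Z (z o) := by
    intro s hs
    have hsN := S0_nor_ZK hf D (o := o) hs
    have h1 := h _ (phi_mem_img hsN hs)
    have h2 : w * s * w⁻¹ * s⁻¹ ∈ Wp L S Z Q (z o) := by
      have := mul_mem hw (S0_conj_Wp hf D hs (inv_mem hw))
      have e : w * (s * w⁻¹ * s⁻¹) = w * s * w⁻¹ * s⁻¹ := by group
      rwa [e] at this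
    have h3 : w * s * w⁻¹ * s⁻¹ ∈ centralizer (zc (KQ L S Z Q (z o)) : Set G) := by
      rw [← phi_eq_one_iff (Wp_nor_ZK h2)]
      have h4 : phi (Wp_nor_ZK h2) = phi (Wp_nor_ZK hw) * (phi hsN * phi (Wp_nor_ZK hw) * (phi hsN)⁻¹)⁻¹ := by
        rw [phi_mul, phi_inv, phi_mul, phi_inv, phi_mul]
        rw [phi_eq_iff]
        intro v _
        group
      rw [h4, h1, mul_inv_cancel]
    have h6 : w * s * w⁻¹ = (w * s * w⁻¹ * s⁻¹) * s := by group
    rw [h6]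
    exact mul_mem (KK_le_KS (Wp_faith D h2 h3)) (S0_le_KS hs)
  obtain ⟨j, hj, hj2⟩ := exists_conj_odd (S.2.to_le Dat.S0_le) (S0_le_KS (L := L) (o := o))
    (S0_odd' D S0_le_KS KS_le_CE) (Y := (S0 (S : Subgroup G) Z).map (MulAut.conj w).toMonoidHom)
    ((S.2.to_le Dat.S0_le : IsPGroup 2 ↥(S0 (S : Subgroup G) Z)).map _) (by
      rintro _ ⟨s, hs, rfl⟩
      exact h1 s hs)
  have h2 : j ∈ (S0 (S : Subgroup G) Z : Set G) * (KK L S Z (z o) : Set G) := by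
    rw [← coe_mul_of_left_le_normalizer_right _ _ (S0_nor_KK hf D), sup_comm]
    exact hj
  obtain ⟨s, hs, k, hk, rfl⟩ := h2
  refine ⟨k, hk, mem_norm fun t ht => ?_⟩
  have h3 := hj2 (w * t * w⁻¹) ⟨t, ht, rfl⟩
  have h4 := mul_mem (mul_mem (inv_mem hs) h3) hs
  have e : s⁻¹ * (s * k * (w * t * w⁻¹) * (s * k)⁻¹) * s = k * w * t * (k * w)⁻¹ := by group
  rwa [e] at h4

end

end Cfsg.Agent.Omega.IId.Red
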