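import Cfsg.Agent.Omega.IId.Red.Three
import Cfsg.Agent.Omega.IId.Big.Fix

/-!
# `#17245` (1) in the frame `Big.Fr S V`

`one` : an involution which centralises `O₂(C_G(s))` for all `s ∈ V l#`, `l ≠ i`, and `O₂(C_G(p))`, `p ∈ V i#`, is `p`.
-/

set_option autoImplicit false
set_option linter.unusedSectionVars false

namespace Cfsg.Agent.Omega.IId.Red

open Subgroup Cfsg Cfsg.Agent.ZN
open Cfsg.Agent.Omega.IId.One (cz mem_cz Kk mem_Kk Kk_le Kk_conj)
open Cfsg.Agent.Omega.IId.Big hiding cz qz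
open Triangle (KK)

universe u

variable {G : Type u} [Group G] {ι : Type} {S : Sylow 2 G} {V : ι → Subgroup G} [Finite G] [Finite ι]

theorem cent_cz {p : G} (hp1 : p ∈ o2 (cz p)) {t : G} (ht : t ∈ centralizer (o2 (cz p) : Set G)) :
    t ∈ cz p := mem_cz.2 (mem_centralizer_iff.1 ht p hp1).symm

section
variable (h : Fr (S : Subgroup G) V)
include h

theorem fr_self {i : ι} {p : G} (hp : p ∈ V i) (hp1 : p ≠ 1) : p ∈ o2 (cz p) := h.VQ i i p hp hp1 hp

theorem fr_c2t {i : ι} {p : G} (hp : p ∈ V i) (hp1 : p ≠ 1) :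
    centralizer (o2 (cz p) : Set G) ≤ o2 (cz p) := fun _ ht =>
  h.c2 i p hp hp1 ⟨cent_cz (fr_self h hp hp1) ht, ht⟩

theorem mem_Uu_of {i : ι} {p t : G} (hp : p ∈ V i) (hp1 : p ≠ 1) (ht2 : t * t = 1)
    (ht : t ∈ centralizer (o2 (cz p) : Set G)) : t ∈ Uu p :=
  mem_Uu.2 ⟨fr_c2t h hp hp1 ht, ht2, fun y hy => mem_centralizer_iff.1 ht y hy⟩

theorem V_le_Uu {i l : ι} (hl : l ≠ i) {p : G} (hp : p ∈ V i) (hp1 : p ≠ 1) : V l ≤ Uu p := fun x hx =>
  mem_Uu_of h hp hp1 (h.sq l x hx) (mem_centralizer_iff.2 fun q hq => h.Qc i l hl p hp hp1 q hq x hx)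

theorem self_Uu {i : ι} {p : G} (hp : p ∈ V i) (hp1 : p ≠ 1) : p ∈ Uu p :=
  mem_Uu_of h hp hp1 (h.sq i p hp) (mem_centralizer_iff.2 fun _ hq => mem_cz.1 (ZN.o2_le _ hq))

/-- an element of all `U_s` is `1`. -/
theorem eq_one_all (i : ι) {t : G} (ht : ∀ l, ∀ s ∈ V l, s ≠ 1 → t ∈ Uu s) : t = 1 := by
  let A : Subgroup G := ⨅ x : {x : ι × G // x.2 ∈ V x.1 ∧ x.2 ≠ 1}, Uu x.1.2
  have hA : ∀ {y}, y ∈ A ↔ ∀ l, ∀ s ∈ V l, s ≠ 1 → y ∈ Uu s := by
    intro y
    rw [mem_iInf]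
    exact ⟨fun h l s hs hs1 => h ⟨⟨l, s⟩, hs, hs1⟩, fun h x => h x.1.1 x.1.2 x.2.1 x.2.2⟩
  obtain ⟨a, ha, -, -, ha1, -, -⟩ := h.exists_two i
  refine h.fix_bot (A := A) ((isPGroup_Uu a).to_le fun y hy => hA.1 hy i a ha ha1) ?_ (hA.2 ht) ?_
  · refine norm_of fun s hs y hy => hA.2 fun l p hp hp1 => ?_
    obtain ⟨m, hm⟩ := h.perm s⁻¹ (inv_mem hs) l
    have h1 := (hm p).1 hp
    have h2 := conj_Uu (g := s) (hA.1 hy m _ h1 (fun e => hp1 (by
      have e1 : p = s * (s⁻¹ * p * s⁻¹⁻¹) * s⁻¹ := by group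
      rw [e1, e]; group)))
    have e : s * (s⁻¹ * p * s⁻¹⁻¹) * s⁻¹ = p := by group
    rwa [e] at h2
  · intro j
    refine cent_of_XX fun v hv hv1 g hg => ?_
    exact (mem_Uu.1 (ht j v hv hv1)).2.2 g (h.KK_le_q hv hv1 hg)

/-- an element centralising all `Q_s`, `s ∈ V l#`, `l ≠ i`, and two groups `Q_a`, `Q_b` is `1`. -/
theorem eq_one_two {i : ι} {a b t : G} (ha : a ∈ V i) (hb : b ∈ V i) (ha1 : a ≠ 1) (hb1 : b ≠ 1) (hab : a ≠ b)
    (ht2 : t * t = 1) (hA : ∀ l, l ≠ i → ∀ s ∈ V l, s ≠ 1 → t ∈ centralizer (o2 (cz s) : Set G))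
    (hta : t ∈ centralizer (o2 (cz a) : Set G)) (htb : t ∈ centralizer (o2 (cz b) : Set G)) : t = 1 := by
  refine eq_one_all h i fun l s hs hs1 => mem_Uu_of h hs hs1 ht2 ?_
  by_cases hl : l = i
  · subst hl
    rcases h.cases4 ha hb ha1 hb1 hab hs with rfl | rfl | rfl | rfl
    · exact absurd rfl hs1
    · exact hta
    · exact htb
    · obtain ⟨g, hg, hgb⟩ := h.move ha hb ha1 hb1 hab
      have h1 := conj_cent (g := g) htb
      rw [hgb] at h1
      have h2 := mem_centralizer_iff.1 hta g (h.KK_le_q ha ha1 hg)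
      have e : g * t * g⁻¹ = t := mul_inv_eq_iff_eq_mul.2 h2
      rwa [e] at h1
  · exact hA l hl s hs hs1

/-- **`#17245` (1).** -/
theorem one {i j : ι} (hji : j ≠ i) {p : G} (hp : p ∈ V i) (hp1 : p ≠ 1) {t : G} (ht2 : t * t = 1)
    (hA : ∀ l, l ≠ i → ∀ s ∈ V l, s ≠ 1 → t ∈ centralizer (o2 (cz s) : Set G))
    (hQ : t ∈ centralizer (o2 (cz p) : Set G)) : t = 1 ∨ t = p := by
  obtain ⟨a, ha, ha1, hpa⟩ := h.exists_other (i := i) p
  obtain ⟨r, hr, hr1, -⟩ := h.exists_other (i := j) (1 : G)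
  have hap : a ≠ p := Ne.symm hpa
  have htU : t ∈ Uu p := mem_Uu_of h hp hp1 ht2 hQ
  have htr : t ∈ Uu r := mem_Uu_of h hr hr1 ht2 (hA j hji r hr hr1)
  -- `t` centralises `V i`
  have hti : ∀ x ∈ V i, t * x = x * t := fun x hx =>
    (mem_centralizer_iff.1 (hA j hji r hr hr1) x (h.VQ j i r hr hr1 hx)).symm
  have hta : t ∈ cz a := mem_cz.2 (hti a ha)
  have hap' : a * p ≠ 1 := fun e => hap (by
    have := eq_inv_of_mul_eq_one_left e
    rw [this]; exact inv_eq_of_mul_eq_one_left (h.sq i p hp))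
  -- (i) `t` centralises `U_a`
  have hUa : ∀ u ∈ Uu a, u * t = t * u := by
    intro u hu
    have huQ : u ∈ o2 (cz a) := (mem_Uu.1 hu).1
    have hua : u ∈ cz a := ZN.o2_le _ huQ
    have hup : u ∈ cz p := mem_cz.2 ((mem_Uu.1 hu).2.2 p (h.VQ i i a ha ha1 hp)).symm
    have h1 : u * t * u⁻¹ * t⁻¹ = 1 := by
      have ht' : t⁻¹ = t := inv_eq_of_mul_eq_one_left ht2
      have hc1 : u * t * u⁻¹ * t⁻¹ ∈ Uu a := by
        have h2 := conj_Uu (g := t) (Subgroup.inv_mem _ hu)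
        rw [cz_conj hta] at h2
        have e : u * t * u⁻¹ * t⁻¹ = u * (t * u⁻¹ * t⁻¹) := by group
        rw [e]
        exact mul_mem hu h2
      have hc2 : u * t * u⁻¹ * t⁻¹ ∈ Uu p := by
        have h2 := conj_Uu (g := u) htU
        rw [cz_conj hup] at h2
        exact mul_mem h2 (inv_mem htU)
      refine eq_one_two h ha hp ha1 hp1 hap (mem_Uu.1 hc1).2.1 (fun l hl s hs hs1 => ?_)
        (Uu_le_cent a hc1) (Uu_le_cent p hc2)
      have h2 := hA l hl s hs hs1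
      have hus : u ∈ cz s := mem_cz.2 ((mem_Uu.1 hu).2.2 s (h.VQ i l a ha ha1 hs)).symm
      have h3 := conj_cent (g := u) h2
      rw [cz_conj hus] at h3
      exact mul_mem h3 (inv_mem h2)
    have h2 : u * t * u⁻¹ = t := by
      calc u * t * u⁻¹ = (u * t * u⁻¹ * t⁻¹) * t := by group
        _ = t := by rw [h1, one_mul]
    exact mul_inv_eq_iff_eq_mul.1 h2
  -- (ii) `t ∈ Q_a`
  have htQ : t ∈ o2 (cz a) := by
    set X := centralizer (Uu a : Set G) with hX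
    have hXa : X ≤ cz a := fun x hx => mem_cz.2 (mem_centralizer_iff.1 hx a (self_Uu h ha ha1)).symm
    have hXr : X ≤ cz r := fun x hx => mem_cz.2 (mem_centralizer_iff.1 hx r (V_le_Uu h hji ha ha1 hr)).symm
    have hnX : cz a ≤ normalizer (X : Set G) := by
      refine norm_of fun g hg x hx => mem_centralizer_iff.2 fun u hu => ?_
      have h1 := conj_Uu (g := g⁻¹) hu
      rw [cz_conj (inv_mem hg), inv_inv] at h1
      have h2 := mem_centralizer_iff.1 hx _ h1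
      calc u * (g * x * g⁻¹) = g * ((g⁻¹ * u * g) * x) * g⁻¹ := by group
        _ = g * x * g⁻¹ * u := by rw [h2]; group
    have h1 : Uu r ⊓ X ≤ o2 X := by
      refine ZN.le_o2 inf_le_right ((isPGroup_Uu r).to_le inf_le_left) (norm_of fun g hg x hx => ?_)
      refine mem_inf.2 ⟨?_, mul_mem (mul_mem hg (mem_inf.1 hx).2) (inv_mem hg)⟩
      have h2 := conj_Uu (g := g) (mem_inf.1 hx).1
      rwa [cz_conj (hXr hg)] at h2
    exact o2_le_o2_of hXa hnX (h1 (mem_inf.2 ⟨htr, mem_centralizer_iff.2 hUa⟩))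
  -- (iii)
  obtain ⟨g, hg, hgp⟩ := h.move ha hp ha1 hp1 hap
  have key : ∀ y, y * y = 1 → (∀ l, l ≠ i → ∀ s ∈ V l, s ≠ 1 → y ∈ centralizer (o2 (cz s) : Set G)) →
      y ∈ centralizer (o2 (cz p) : Set G) → g * y * g⁻¹ = y → y = 1 := by
    intro y hy2 hyA hyp hgy
    have h1 := conj_cent (g := g) hyp
    rw [hgp, hgy] at h1
    have hne : p ≠ a * p := fun e => ha1 (by
      have := mul_inv_eq_one.2 e.symm
      calc a = a * p * p⁻¹ := by group
        _ = 1 := this)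
    exact eq_one_two h hp (mul_mem ha hp) hp1 hap' hne hy2 hyA hyp h1
  rcases h.KK_act ha hg htQ with h1 | h1
  · left
    exact key t ht2 hA hQ h1
  · right
    have hpt : p * t = t * p := (hti p hp).symm
    have hat : a * t = t * a := (hti a ha).symm
    have h2 : t * p = 1 := by
      refine key (t * p) ?_ (fun l hl s hs hs1 => ?_) ?_ ?_
      · calc t * p * (t * p) = t * (p * t) * p := by group
          _ = (t * t) * (p * p) := by rw [hpt]; group
          _ = 1 := by rw [ht2, h.sq i p hp, one_mul]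
      · exact mul_mem (hA l hl s hs hs1) (mem_centralizer_iff.2 fun q hq => h.Qc l i (Ne.symm hl) s hs hs1 q hq p hp)
      · exact mul_mem hQ (mem_centralizer_iff.2 fun q hq => mem_cz.1 (ZN.o2_le _ hq))
      · calc g * (t * p) * g⁻¹ = (g * t * g⁻¹) * (g * p * g⁻¹) := by group
          _ = (a * t) * (a * p) := by rw [h1, hgp]
          _ = (t * a) * (a * p) := by rw [hat]
          _ = t * (a * a) * p := by group
          _ = t * p := by rw [h.sq i a ha, mul_one]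
    have h3 := eq_inv_of_mul_eq_one_left h2
    rw [h3]
    exact inv_eq_of_mul_eq_one_left (h.sq i p hp)

end

end Cfsg.Agent.Omega.IId.Red
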