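import Cfsg.Agent.Omega.IId.Red.FunOf
import Cfsg.Agent.Omega.IId.Red.OneFr
import Cfsg.Agent.Omega.IId.Big.Of
import Cfsg.Agent.Omega.ThmC.Of

/-!
# `#17245` (1), (2) = (RED) in the frame `Big.Fr S V` (helper610)

`B : Blk S P Q V x z` (four-groups `V l` permuted by `S`, `Q = C_S(Ω₁Z(Q))`, `C_G(Q) ≤ Q`), `h : Fr S V`, at least two
factors.

* `E_le` : `Ω₁Z(S⁰) = ⟨z l⟩` (1);
* `redG` : (RED) `O₂(C_G(p)/C(U_p)) = 1`, `U_p = UU V i p = ⟨(∏_{j ≠ i} V j)^{C_G(p)}⟩`, `p ∈ V i#`;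
* `dat` : helper653's data `Red.Dat V (NN V)` with `NN V p = ⟨p⟩ U_p`;
* `dat_of`, `redG_of` : for the natural factors `fac M` over `𝔽₂`, `k ≥ 2`.
-/

set_option autoImplicit false
set_option linter.unusedSectionVars false

namespace Cfsg.Agent.Omega.IId.Red

open scoped Pointwise
open Subgroup Cfsg
open Cfsg.Agent.ZN (zc o2)
open Cfsg.Agent.Omega.IITwo.Count (conj_mem conj_mem' mem_norm Three)
open Cfsg.Agent.Omega.ThmC
open Cfsg.Agent.Omega.IITwo.Three (Blk)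
open Cfsg.Agent.Omega.IId.One (cz mem_cz Kk mem_Kk)
open Cfsg.Agent.Omega.IId.Big (Fr Vo UU cl le_Vo Vo_le V_le_UU Vo_le_UU conj_mem_cl cl_conj cent_of_cl cent_of_closure)
open Triangle (KK)

universe u

variable {G : Type u} [Group G]

section blk
variable {ι : Type} {S : Sylow 2 G} {P Q : Subgroup G} {V : ι → Subgroup G} {x : ι → G} {z : G}

/-- the points of `V l`. -/
theorem exists_pow [Finite G] [Finite ι] (B : Blk (S : Subgroup G) P Q V x z) {l : ι} {s : G} (hs : s ∈ V l) (hs1 : s ≠ 1) :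
    ∃ n : ℕ, (x l) ^ n * B.zl l * ((x l) ^ n)⁻¹ = s := by
  obtain ⟨hb1, hab, h1, -⟩ := IITwo.Three.three_cycle (fun u hu => B.sq hu)
    (fun u hu v hv => B.comm hu hv) (B.xn l) (B.x3 l) (B.zl_mem_V l) (B.zl_ne_one l)
  rcases IITwo.Three.four_all (B.four l) (fun u hu => B.sq hu) (B.zl_mem_V l)
    (conj_mem (B.xn l) (B.zl_mem_V l)) (B.zl_ne_one l) hb1 hab s hs with h | h | h | h
  · exact absurd h hs1
  · exact ⟨0, by rw [h]; simp⟩
  · exact ⟨1, by rw [h, pow_one]⟩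
  · exact ⟨2, by rw [h, ← h1, pow_two]; group⟩

variable [Finite G] [Finite ι] (B : Blk (S : Subgroup G) P Q V x z)
  (hSC : (S : Subgroup G) ⊓ centralizer (zc Q : Set G) ≤ Q) (hCQ : centralizer (Q : Set G) ≤ Q)
  (h : Fr (S : Subgroup G) V)

include hSC hCQ h in
/-- **`#17245` (1): `Ω₁Z(S⁰) ≤ ⟨z l⟩`.** -/
theorem E_le (hne : ∀ i : ι, ∃ j, j ≠ i) {K : Subgroup G} (hK : ∀ l, B.zl l ∈ K) :
    zc (S0 (S : Subgroup G) B.ML) ≤ K := by
  have := Fintype.ofFinite ι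
  have D : ThmC.Dat S Q B.ML x B.zl := B.dat hSC hCQ
  intro e he
  have key : ∀ l, pr (x l) e ∈ K := by
    intro l
    have h1 : pr (x l) e ∈ zc (S0 (S : Subgroup G) B.ML) := D.pr_E l e he
    have h2 : pr (x l) e ∈ B.ML l := D.pi_mem l (Md.mk e (D.E_le he))
    have hc0 : ∀ m, pr (x l) e ∈ centralizer (o2 (cz (B.zl m)) : Set G) := fun m =>
      mem_centralizer_iff.2 fun q hq => mem_centralizer_iff.1 (MinSimple.VModule.zc_le_centralizer _ h1) q (D.o2_le_S0 m hq)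
    obtain ⟨j, hj⟩ := hne l
    have hA : ∀ m, m ≠ l → ∀ s ∈ V m, s ≠ 1 → pr (x l) e ∈ centralizer (o2 (cz s) : Set G) := by
      intro m hm s hs hs1
      obtain ⟨n, hn⟩ := exists_pow B hs hs1
      have h3 := conj_cent (g := (x m) ^ n) (hc0 m)
      rw [hn] at h3
      have h4 : (x m) ^ n * pr (x l) e * ((x m) ^ n)⁻¹ = pr (x l) e := by
        have h5 : x m * pr (x l) e * (x m)⁻¹ = pr (x l) e := D.triv m l hm _ h2
        have h6 : Commute (x m) (pr (x l) e) := mul_inv_eq_iff_eq_mul.1 h5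
        exact mul_inv_eq_iff_eq_mul.2 (h6.pow_left n).eq
      rwa [h4] at h3
    rcases one h hj (B.zl_mem_V l) (B.zl_ne_one l) (D.sq h2) hA (hc0 l) with h3 | h3
    · rw [h3]; exact one_mem _
    · rw [h3]; exact hK l
  have h1 := D.pi_sum (Md.mk e (D.E_le he))
  have h2 : e = (∑ l, D.pi l (Md.mk e (D.E_le he))).val := by rw [h1]; rfl
  rw [h2]
  exact Dat.sum_mem _ _ fun l _ => key l

include hSC hCQ h in
/-- (RED) for `p = z i`. -/
theorem redG_zl (hne : ∀ i : ι, ∃ j, j ≠ i) (i : ι) : RedG (cz (B.zl i)) (UU V i (B.zl i)) := by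
  intro K hKC hKn hK2 k hk n hn
  have D : ThmC.Dat S Q B.ML x B.zl := B.dat hSC hCQ
  have hUn : ∀ c ∈ cz (B.zl i), ∀ y ∈ UU V i (B.zl i), c * y * c⁻¹ ∈ UU V i (B.zl i) := fun c hc y hy =>
    (mem_normalizer_iff.1 (Big.cz_norm_UU (V := V) (i := i) hc) y).1 hy
  -- `N = ⟨z i⟩ U`
  let N : Subgroup G := closure {y | y = B.zl i ∨ y ∈ UU V i (B.zl i)}
  have hN : ∀ c ∈ centralizer ({B.zl i} : Set G), ∀ y ∈ N, c * y * c⁻¹ ∈ N := by
    intro c hc y hy
    have h1 : N ≤ N.comap (MulAut.conj c).toMonoidHom := by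
      rw [closure_le]
      rintro y (rfl | hy)
      · show c * B.zl i * c⁻¹ ∈ N
        rw [mem_cs'.mp hc]
        exact subset_closure (Or.inl rfl)
      · exact subset_closure (Or.inr (hUn c hc y hy))
    exact h1 hy
  have hE : zc (S0 (S : Subgroup G) B.ML) ≤ N := by
    refine E_le B hSC hCQ h hne fun l => ?_
    by_cases hl : l = i
    · rw [hl]; exact subset_closure (Or.inl rfl)
    · exact subset_closure (Or.inr (V_le_UU hl (B.zl_mem_V l)))
  have h1 : K ≤ CE S B.ML := red_dat D i hKC hKn hE hN fun k hk => by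
    obtain ⟨m, hm⟩ := hK2 k hk
    refine ⟨m, ?_⟩
    have h2 : N ≤ centralizer ({k ^ 2 ^ m} : Set G) := by
      rw [closure_le]
      rintro y (rfl | hy)
      · exact mem_centralizer_singleton_iff.2 (mem_cz.1 (pow_mem (hKC hk) _)).symm
      · exact mem_centralizer_singleton_iff.2 (mul_inv_eq_iff_eq_mul.1 (hm y hy)).symm
    exact mem_centralizer_iff.2 fun y hy => mem_centralizer_singleton_iff.1 (h2 hy)
  -- `K` centralises `z l`
  have h2 : ∀ l, ∀ k ∈ K, k * B.zl l = B.zl l * k := fun l k hk =>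
    (mem_centralizer_iff.1 (h1 hk) _ (D.z_mem_E l)).symm
  -- `K` centralises `V l`, `l ≠ i`
  have h3 : ∀ l, l ≠ i → ∀ s ∈ V l, ∀ k ∈ K, k * s = s * k := by
    intro l hl s hs k hk
    by_cases hs1 : s = 1
    · rw [hs1, one_mul, mul_one]
    obtain ⟨n, hn⟩ := exists_pow B hs hs1
    have hx : (x l) ^ n ∈ cz (B.zl i) := pow_mem (D.x_mem_C hl) n
    have h4 := hKn _ (inv_mem hx) k hk
    rw [inv_inv] at h4
    have h5 := h2 l _ h4
    calc k * s = (x l) ^ n * ((((x l) ^ n)⁻¹ * k * (x l) ^ n) * B.zl l) * ((x l) ^ n)⁻¹ := by rw [← hn]; group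
      _ = s * k := by rw [h5, ← hn]; group
  have h4 : ∀ a ∈ Vo V i, ∀ k ∈ K, k * a = a * k := by
    intro a ha k hk
    refine cent_of_closure ?_ ha
    rintro y ⟨l, hl, hy⟩
    exact h3 l hl y hy k hk
  have h5 : k * n = n * k := by
    refine cent_of_cl (fun c hc a ha => ?_) hn
    have h6 := hKn _ (inv_mem hc) k hk
    rw [inv_inv] at h6
    have h7 := h4 a ha _ h6
    calc k * (c * a * c⁻¹) = c * ((c⁻¹ * k * c) * a) * c⁻¹ := by group
      _ = c * a * c⁻¹ * k := by rw [h7]; group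
  rw [h5]; group

include h in
theorem comm_pow {i : ι} {g a : G} (hg : ∀ l, l ≠ i → ∀ s ∈ V l, g * s = s * g) (ha : a ∈ Vo V i) :
    g * a * g⁻¹ = a := by
  have h1 : g * a = a * g := by
    refine cent_of_closure ?_ ha
    rintro y ⟨l, hl, hy⟩
    exact hg l hl y hy
  rw [h1]; group

include B hSC hCQ h in
/-- **(RED).** -/
theorem redG (hne : ∀ i : ι, ∃ j, j ≠ i) {i : ι} {p : G} (hp : p ∈ V i) (hp1 : p ≠ 1) :
    RedG (cz p) (UU V i p) := by
  obtain ⟨m, hm⟩ := exists_pow B hp hp1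
  obtain ⟨g, hg⟩ : ∃ g, g = (x i) ^ m := ⟨_, rfl⟩
  rw [← hg] at hm
  have hgc : ∀ l, l ≠ i → ∀ s ∈ V l, g * s = s * g := fun l hl s hs => by
    have h1 : Commute (x i) s := B.xc i l hl s hs
    rw [hg]
    exact (h1.pow_left m).eq
  have hgc' : ∀ l, l ≠ i → ∀ s ∈ V l, g⁻¹ * s = s * g⁻¹ := fun l hl s hs =>
    (show Commute g s from hgc l hl s hs).inv_left.eq
  have hcz : ∀ c, c ∈ cz p ↔ g⁻¹ * c * g ∈ cz (B.zl i) := by
    intro c
    rw [mem_cz, mem_cz]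
    constructor
    · intro h1
      calc g⁻¹ * c * g * B.zl i = g⁻¹ * (c * (g * B.zl i * g⁻¹)) * g := by group
        _ = B.zl i * (g⁻¹ * c * g) := by rw [hm, h1, ← hm]; group
    · intro h1
      calc c * p = g * ((g⁻¹ * c * g) * B.zl i) * g⁻¹ := by rw [← hm]; group
        _ = p * c := by rw [h1, ← hm]; group
  have hU : ∀ y ∈ UU V i p, g⁻¹ * y * g ∈ UU V i (B.zl i) := by
    intro y hy
    have := cl_conj (g := g⁻¹) (A' := Vo V i) (C' := cz (B.zl i)) (fun a ha => by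
      rw [comm_pow h hgc' ha]; exact ha) (fun c hc => by
      rw [inv_inv]; exact (hcz c).1 hc) hy
    rwa [inv_inv] at this
  have hU' : ∀ y ∈ UU V i (B.zl i), g * y * g⁻¹ ∈ UU V i p := by
    intro y hy
    refine cl_conj (fun a ha => by rw [comm_pow h hgc ha]; exact ha) (fun c hc => (hcz _).2 ?_) hy
    have e : g⁻¹ * (g * c * g⁻¹) * g = c := by group
    rwa [e]
  intro K hKC hKn hK2 k hk n hn
  have hR := redG_zl B hSC hCQ h hne i
  -- `K' = g⁻¹ K g`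
  have hK' : ∀ y, y ∈ K.map (MulAut.conj g⁻¹).toMonoidHom ↔ g * y * g⁻¹ ∈ K := by
    intro y
    constructor
    · rintro ⟨k, hk, rfl⟩
      have e : g * ((MulAut.conj g⁻¹).toMonoidHom k) * g⁻¹ = k := by
        show g * (g⁻¹ * k * g⁻¹⁻¹) * g⁻¹ = k
        group
      rw [e]; exact hk
    · intro hy
      refine ⟨_, hy, ?_⟩
      show g⁻¹ * (g * y * g⁻¹) * g⁻¹⁻¹ = y
      group
  have h1 := hR (K.map (MulAut.conj g⁻¹).toMonoidHom) ?_ ?_ ?_ (g⁻¹ * k * g) ?_ (g⁻¹ * n * g) (hU n hn)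
  · calc k * n * k⁻¹ = g * (g⁻¹ * k * g * (g⁻¹ * n * g) * (g⁻¹ * k * g)⁻¹) * g⁻¹ := by group
      _ = n := by rw [h1]; group
  · intro y hy
    have h2 := (hcz _).1 (hKC ((hK' y).1 hy))
    have e : g⁻¹ * (g * y * g⁻¹) * g = y := by group
    rwa [e] at h2
  · intro c hc y hy
    rw [hK'] at hy ⊢
    have h2 : g * c * g⁻¹ ∈ cz p := by
      rw [hcz]
      have e : g⁻¹ * (g * c * g⁻¹) * g = c := by group
      rwa [e]
    have h3 := hKn _ h2 _ hy
    have e : g * c * g⁻¹ * (g * y * g⁻¹) * (g * c * g⁻¹)⁻¹ = g * (c * y * c⁻¹) * g⁻¹ := by group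
    rwa [e] at h3
  · intro y hy
    rw [hK'] at hy
    obtain ⟨m, hm⟩ := hK2 _ hy
    refine ⟨m, fun v hv => ?_⟩
    have h2 := hm _ (hU' v hv)
    rw [conj_pow] at h2
    have e : g * y ^ 2 ^ m * g⁻¹ * (g * v * g⁻¹) * (g * y ^ 2 ^ m * g⁻¹)⁻¹ =
      g * (y ^ 2 ^ m * v * (y ^ 2 ^ m)⁻¹) * g⁻¹ := by group
    rw [e] at h2
    exact mul_left_cancel (mul_right_cancel h2)
  · rw [hK']
    have e : g * (g⁻¹ * k * g) * g⁻¹ = k := by group
    rw [e]; exact hk

end blk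

/-! ### helper653's data -/

section nn
variable {ι : Type} {S : Sylow 2 G} {V : ι → Subgroup G}

/-- `N_p = ⟨p⟩ ⟨(∏_{j ≠ i} V j)^{C_G(p)}⟩`, `p ∈ V i#`. -/
def NN (V : ι → Subgroup G) (p : G) : Subgroup G := closure {y | y = p ∨ ∃ i, p ∈ V i ∧ y ∈ UU V i p}

variable [Finite G] [Finite ι] (h : Fr (S : Subgroup G) V)
include h

theorem UU_le_NN {i : ι} {p : G} (hp : p ∈ V i) : UU V i p ≤ NN V p := fun _ hy =>
  subset_closure (Or.inr ⟨i, hp, hy⟩)

theorem NN_le {i : ι} {p : G} (hp : p ∈ V i) (hp1 : p ≠ 1) {K : Subgroup G} (h1 : p ∈ K) (h2 : UU V i p ≤ K) :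
    NN V p ≤ K := by
  rw [NN, closure_le]
  rintro y (rfl | ⟨j, hj, hy⟩)
  · exact h1
  · by_cases hij : i = j
    · subst hij; exact h2 hy
    · exact absurd (h.disj hij hp hj) hp1

/-- **The data of helper653** (`#17245` (3), (4), (5)) from (RED). -/
theorem dat (hne : ∀ i : ι, ∃ j, j ≠ i) (hR : ∀ i, ∀ p ∈ V i, p ≠ 1 → RedG (cz p) (UU V i p)) :
    Red.Dat V (NN V) where
  sq := h.sq
  card := h.four
  self i p hp hp1 := h.VQ i i p hp hp1
  mem i l hl p hp hp1 := V_le_Uu h hl hp hp1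
  mov i p hp hp1 := by
    obtain ⟨g, hg, y, hy, hgy⟩ := h.WV i p hp hp1
    refine ⟨g, mem_Kk.2 ⟨mem_cz.2 (Triangle.mem_KK.1 hg).1, (Triangle.mem_KK.1 hg).2⟩, h.KK_le_q hp hp1 hg, fun hc => ?_⟩
    exact hgy (mem_centralizer_iff.1 hc y hy).symm
  c2t i p hp hp1 := fr_c2t h hp hp1
  one i p hp hp1 t ht2 hA hQ := by
    obtain ⟨j, hj⟩ := hne i
    exact one h hj hp hp1 ht2 hA hQ
  leN i p hp hp1 := NN_le h hp hp1 (self_Uu h hp hp1) fun y hy =>
    mem_Uu.2 ⟨h.U_le_q hp hp1 hy, h.U_sq hp hp1 hy, fun q hq => h.U_cent hp hp1 hy hq⟩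
  norN i p hp hp1 c hc y hy := by
    have h1 : NN V p ≤ (NN V p).comap (MulAut.conj c).toMonoidHom := by
      refine NN_le h hp hp1 ?_ fun y hy => ?_
      · show c * p * c⁻¹ ∈ NN V p
        rw [cz_conj hc]
        exact subset_closure (Or.inl rfl)
      · exact UU_le_NN h hp ((mem_normalizer_iff.1 (Big.cz_norm_UU (V := V) (i := i) hc) y).1 hy)
    exact h1 hy
  memN i p hp hp1 := subset_closure (Or.inl rfl)
  VN i l hl p hp hp1 := (V_le_UU hl).trans (UU_le_NN h hp)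
  red i p hp hp1 := by
    intro K hKC hKn hK2 k hk n hn
    have h1 := hR i p hp hp1 K hKC hKn (fun k hk => by
      obtain ⟨m, hm⟩ := hK2 k hk
      exact ⟨m, fun y hy => hm y (UU_le_NN h hp hy)⟩) k hk
    have h2 : NN V p ≤ centralizer ({k} : Set G) := NN_le h hp hp1
      (mem_centralizer_singleton_iff.2 (mem_cz.1 (hKC hk)).symm) fun y hy =>
      mem_centralizer_singleton_iff.2 (mul_inv_eq_iff_eq_mul.1 (h1 y hy)).symm
    rw [← mem_centralizer_singleton_iff.1 (h2 hn)]; group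

end nn

/-! ### natural factors -/

section nat

open Cfsg.Agent.ZN.ChoiceBase Cfsg.Agent.Omega.MinPar Cfsg.Agent.Omega.FFThm Cfsg.Agent.ZN

variable [Finite G] {F : Type} [Field F] [Finite F] [CharP F 2] {S : Sylow 2 G} {P : Subgroup G} {k : ℕ}
  {M : NatK F (S : Subgroup G) P (zl (S : Subgroup G) P) ⊥ k}

theorem exists_ne (hk : 1 < k) (i : Fin k) : ∃ j : Fin k, j ≠ i := by
  by_cases hi : i.val = 0
  · exact ⟨⟨1, hk⟩, fun e => by have := congrArg Fin.val e; simp at this; omega⟩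
  · exact ⟨⟨0, by omega⟩, fun e => hi (by rw [← e])⟩

/-- **(RED)** for natural factors over `𝔽₂`. -/
theorem redG_of (hc : IsCharacteristicTwoType G) (hP : IsParS (S : Subgroup G) P) (hF : Nat.card F = 2)
    (h : Fr (S : Subgroup G) (fac M)) (hk : 1 < k) (i : Fin k) (p : G) (hp : p ∈ fac M i) (hp1 : p ≠ 1) :
    RedG (cz p) (UU (fac M) i p) := by
  obtain ⟨x, z, B, -⟩ := TwoOf.exists_blk hF hc hP M (by omega)
  have hSyl := MinSimple.Basic.not_dvd_relIndex S hP.le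
  have hcP := IsLoc.char2 S hc hP.isLoc
  have hVA : zl (S : Subgroup G) P ≤ zc (o2 P) := MinSimple.VModule.zl_le_zc hP.le S.isPGroup' hSyl hcP
  have hSC : (S : Subgroup G) ⊓ centralizer (zc (o2 P) : Set G) ≤ o2 P :=
    (inf_le_inf_left _ (centralizer_le hVA)).trans
      (MinSimple.VModule.inf_centralizer_zl hP.toIsMinPar S.isPGroup' hSyl hcP hP.not_zc).le
  exact redG B hSC (TwoOf.centralizer_o2_le hc S hP) h (exists_ne hk) hp hp1

/-- helper653's data for natural factors over `𝔽₂`. -/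
theorem dat_of (hc : IsCharacteristicTwoType G) (hP : IsParS (S : Subgroup G) P) (hF : Nat.card F = 2)
    (h : Fr (S : Subgroup G) (fac M)) (hk : 1 < k) : Red.Dat (fac M) (NN (fac M)) :=
  dat h (exists_ne hk) (redG_of hc hP hF h hk)

end nat

end Cfsg.Agent.Omega.IId.Red
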