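import Cfsg.Agent.Omega.IId.Red.Core
import Cfsg.Agent.Omega.IId.One
import Cfsg.Agent.Omega.IId.ThmJ

/-!
# `#17245` (3), (4), (5): `[N_i, N_j] ≤ ⟨v_i, v_j⟩` implies `[N_i, N_j] = 1` for `k ≥ 3` blocks

helper610 #17245, in the form of helper653 #17867 (no TV (2), no `H¹`).

`Dat V N`: four-groups `V i` (`i : ι`), for `p ∈ V i#`: `Q_p = O₂(C_G(p))`, `U_p = Ω₁Z(Q_p)` (`Uu p`) contains `V l`,
`l ≠ i`; `V i ≤ Q_p`, some `w ∈ Kk p` moves `V i`, `C_G(Q_p) ≤ Q_p`; (1) `one`: an involution centralising all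
`Q_s`, `s ∈ V l#`, `l ≠ i`, and `Q_p` is `p`; `N_p ≤ U_p` normal in `C_G(p)`, `p ∈ N_p`, `V l ≤ N_p` (`l ≠ i`), and (RED)
`O₂(C_G(p)/C(N_p)) = 1`.

* `Dat.three` (3): `A_ij ∩ U_p ∩ U_r = {1, p, r, pr}`;
* `Dat.four` (4): `A_ij ∩ U_p` centralises `N_r`;
* `Dat.five` (5): `[N_p, N_r] ≤ ⟨p, r⟩` implies `[N_p, N_r] = 1`.
-/

set_option autoImplicit false
set_option linter.unusedSectionVars false

namespace Cfsg.Agent.Omega.IId.Red

open Subgroup Cfsg Cfsg.Agent.ZN Cfsg.Agent.ZN.ChoiceBase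
open Cfsg.Agent.Omega.IId.One (cz mem_cz Kk mem_Kk Kk_le Kk_conj)
open Cfsg.Agent.Omega.IId.ThmJ (four_cases four_exists)

universe u

variable {G : Type u} [Group G] {ι : Type*}

/-- `Ω₁Z(O₂(C_G(p)))`. -/
abbrev Uu (p : G) : Subgroup G := zc (o2 (cz p))

theorem mem_Uu {p x : G} : x ∈ Uu p ↔ x ∈ o2 (cz p) ∧ x * x = 1 ∧ ∀ y ∈ o2 (cz p), y * x = x * y := by
  rw [ChoiceBase.mem_zc, pow_two]

theorem cj_cz (g p : G) : cj g (cz p) = cz (g * p * g⁻¹) := by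
  ext x
  rw [mem_cj, mem_cz, mem_cz]
  constructor
  · intro h
    have e1 : x * (g * p * g⁻¹) = g * ((g⁻¹ * x * g) * p) * g⁻¹ := by group
    rw [e1, h]
    group
  · intro h
    have e1 : (g⁻¹ * x * g) * p = g⁻¹ * (x * (g * p * g⁻¹)) * g := by group
    rw [e1, h]
    group

theorem mem_cj' {g x : G} {H : Subgroup G} (hx : x ∈ H) : g * x * g⁻¹ ∈ cj g H := by
  rw [mem_cj]
  have e : g⁻¹ * (g * x * g⁻¹) * g = x := by group
  rwa [e]

/-- Conjugation of `o2 (cz p)`. -/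
theorem cj_o2 (g p : G) : o2 (cz (g * p * g⁻¹)) = cj g (o2 (cz p)) := by
  rw [← cj_cz, pCore_cj]

theorem conj_o2 {g p x : G} (hx : x ∈ o2 (cz p)) : g * x * g⁻¹ ∈ o2 (cz (g * p * g⁻¹)) := by
  rw [cj_o2]
  exact mem_cj' hx

theorem conj_cent {g p x : G} (hx : x ∈ centralizer (o2 (cz p) : Set G)) :
    g * x * g⁻¹ ∈ centralizer (o2 (cz (g * p * g⁻¹)) : Set G) := by
  rw [cj_o2, ← cj_centralizer]
  exact mem_cj' hx

theorem conj_Uu {g p x : G} (hx : x ∈ Uu p) : g * x * g⁻¹ ∈ Uu (g * p * g⁻¹) := by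
  rw [mem_Uu] at hx ⊢
  refine ⟨conj_o2 hx.1, ?_, fun y hy => ?_⟩
  · have e : g * x * g⁻¹ * (g * x * g⁻¹) = g * (x * x) * g⁻¹ := by group
    rw [e, hx.2.1]
    group
  · rw [cj_o2, mem_cj] at hy
    have h1 := hx.2.2 _ hy
    have e1 : y * (g * x * g⁻¹) = g * ((g⁻¹ * y * g) * x) * g⁻¹ := by group
    rw [e1, h1]
    group

theorem cz_conj {g p : G} (hg : g ∈ cz p) : g * p * g⁻¹ = p := by
  rw [mem_cz.1 hg, mul_inv_cancel_right]

theorem Uu_le_cent (p : G) : Uu p ≤ centralizer (o2 (cz p) : Set G) := fun x hx => by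
  rw [mem_centralizer_iff]
  exact (mem_Uu.1 hx).2.2

theorem isPGroup_Uu (p : G) : IsPGroup 2 (Uu p) :=
  (isPGroup_o2 (cz p)).to_le fun _ hx => (mem_Uu.1 hx).1

/-- The data. -/
structure Dat (V : ι → Subgroup G) (N : G → Subgroup G) : Prop where
  sq : ∀ i, ∀ x ∈ V i, x * x = 1
  card : ∀ i, Nat.card (V i) = 4
  self : ∀ i, ∀ p ∈ V i, p ≠ 1 → V i ≤ o2 (cz p)
  mem : ∀ i l, l ≠ i → ∀ p ∈ V i, p ≠ 1 → V l ≤ Uu p
  mov : ∀ i, ∀ p ∈ V i, p ≠ 1 → ∃ w ∈ Kk p, w ∈ o2 (cz p) ∧ w ∉ centralizer (V i : Set G)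
  c2t : ∀ i, ∀ p ∈ V i, p ≠ 1 → centralizer (o2 (cz p) : Set G) ≤ o2 (cz p)
  one : ∀ i, ∀ p ∈ V i, p ≠ 1 → ∀ t, t * t = 1 →
    (∀ l, l ≠ i → ∀ s ∈ V l, s ≠ 1 → t ∈ centralizer (o2 (cz s) : Set G)) →
    t ∈ centralizer (o2 (cz p) : Set G) → t = 1 ∨ t = p
  leN : ∀ i, ∀ p ∈ V i, p ≠ 1 → N p ≤ Uu p
  norN : ∀ i, ∀ p ∈ V i, p ≠ 1 → ∀ c ∈ cz p, ∀ n ∈ N p, c * n * c⁻¹ ∈ N p
  memN : ∀ i, ∀ p ∈ V i, p ≠ 1 → p ∈ N p
  VN : ∀ i l, l ≠ i → ∀ p ∈ V i, p ≠ 1 → V l ≤ N p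
  red : ∀ i, ∀ p ∈ V i, p ≠ 1 → RedG (cz p) (N p)

/-- `A_ij = Ω₁ C_G(D_l : l ≠ i, j)`. -/
def AA (V : ι → Subgroup G) (i j : ι) (t : G) : Prop :=
  t * t = 1 ∧ ∀ l, l ≠ i → l ≠ j → ∀ s ∈ V l, s ≠ 1 → t ∈ centralizer (o2 (cz s) : Set G)

theorem AA.symm {V : ι → Subgroup G} {i j : ι} {t : G} (h : AA V i j t) : AA V j i t :=
  ⟨h.1, fun l h1 h2 => h.2 l h2 h1⟩

theorem AA.conj {V : ι → Subgroup G} {i j : ι} {t g : G} (h : AA V i j t)
    (hg : ∀ l, l ≠ i → l ≠ j → ∀ s ∈ V l, g * s * g⁻¹ = s) : AA V i j (g * t * g⁻¹) := by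
  refine ⟨?_, fun l h1 h2 s hs hs1 => ?_⟩
  · have e : g * t * g⁻¹ * (g * t * g⁻¹) = g * (t * t) * g⁻¹ := by group
    rw [e, h.1]
    group
  · have h3 := conj_cent (g := g) (h.2 l h1 h2 s hs hs1)
    rwa [hg l h1 h2 s hs] at h3

namespace Dat

variable {V : ι → Subgroup G} {N : G → Subgroup G} (h : Dat V N)

include h

theorem inv {i : ι} {x : G} (hx : x ∈ V i) : x⁻¹ = x := inv_eq_of_mul_eq_one_left (h.sq i x hx)

/-- The blocks commute. -/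
theorem comm {i l : ι} {x y : G} (hx : x ∈ V i) (hy : y ∈ V l) : x * y = y * x := by
  by_cases hil : l = i
  · subst hil
    have h1 : (x * y)⁻¹ = x * y := h.inv ((V l).mul_mem hx hy)
    rw [← h1, mul_inv_rev, h.inv hx, h.inv hy]
  · by_cases hx1 : x = 1
    · rw [hx1, one_mul, mul_one]
    · exact (mem_Uu.1 (h.mem i l hil x hx hx1 hy)).2.2 x (h.self i x hx hx1 hx)

/-- All blocks lie in `O₂(C_G(p))`. -/
theorem le_o2 {i : ι} {p : G} (hp : p ∈ V i) (hp1 : p ≠ 1) (l : ι) : V l ≤ o2 (cz p) := by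
  by_cases hil : l = i
  · subst hil; exact h.self l p hp hp1
  · exact fun x hx => (mem_Uu.1 (h.mem i l hil p hp hp1 hx)).1

/-- `U_p` centralises all blocks. -/
theorem Uu_comm {i l : ι} {p t x : G} (hp : p ∈ V i) (hp1 : p ≠ 1) (ht : t ∈ Uu p) (hx : x ∈ V l) :
    t * x * t⁻¹ = x := by
  have h1 := (mem_Uu.1 ht).2.2 x (h.le_o2 hp hp1 l hx)
  rw [← h1, mul_inv_cancel_right]

theorem swap {i : ι} {p p' w : G} (hp : p ∈ V i) (hp1 : p ≠ 1) (hp' : p' ∈ V i) (hp1' : p' ≠ 1)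
    (hne : p ≠ p') (hw : w ∈ Kk p) (hw' : w ∉ centralizer (V i : Set G)) : w * p' * w⁻¹ = p * p' := by
  rcases Kk_conj (h.sq i p hp) hw (h.self i p hp hp1 hp') with e | e
  · exfalso
    apply hw'
    rw [mem_centralizer_iff]
    have hcp : p * w = w * p := (mem_cz.1 (Kk_le p hw)).symm
    have hcp' : p' * w = w * p' := by
      have := congrArg (· * w) e
      simpa using this.symm
    intro y hy
    rcases four_cases (h.card i) (h.sq i) hp hp1 hp' hp1' hne hy with rfl | rfl | rfl | rfl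
    · simp
    · exact hcp
    · exact hcp'
    · rw [mul_assoc, hcp', ← mul_assoc, hcp, mul_assoc]
  · exact e

/-- `⟨Q_p, Q_p'⟩` contains the third one. -/
theorem gen {i : ι} {p p' t : G} (hp : p ∈ V i) (hp1 : p ≠ 1) (hp' : p' ∈ V i) (hp1' : p' ≠ 1)
    (hne : p ≠ p') (ht : t ∈ centralizer (o2 (cz p) : Set G)) (ht' : t ∈ centralizer (o2 (cz p') : Set G))
    {x : G} (hx : x ∈ V i) (hx1 : x ≠ 1) : t ∈ centralizer (o2 (cz x) : Set G) := by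
  obtain ⟨w, hw, hw2, hw3⟩ := h.mov i p hp hp1
  have h1 : t ∈ centralizer (o2 (cz (p * p')) : Set G) := by
    have h2 : w * t * w⁻¹ = t := by
      rw [mem_centralizer_iff.1 ht w hw2, mul_inv_cancel_right]
    have h3 := conj_cent (g := w) ht'
    rwa [h2, h.swap hp hp1 hp' hp1' hne hw hw3] at h3
  rcases four_cases (h.card i) (h.sq i) hp hp1 hp' hp1' hne hx with rfl | rfl | rfl | rfl
  · exact absurd rfl hx1
  · exact ht
  · exact ht'
  · exact h1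

theorem notMem {i : ι} {p a : G} (hp : p ∈ V i) (hp1 : p ≠ 1) (ha : a ∈ V i) (ha1 : a ≠ 1) (hne : p ≠ a) :
    a ∉ Uu p := by
  intro h1
  obtain ⟨w, hw, hw2, hw3⟩ := h.mov i p hp hp1
  have h2 := h.swap hp hp1 ha ha1 hne hw hw3
  rw [(mem_Uu.1 h1).2.2 w hw2, mul_inv_cancel_right] at h2
  exact hp1 (by simpa using h2)

theorem disj {i j : ι} (hij : i ≠ j) {x : G} (hx : x ∈ V i) (hx' : x ∈ V j) : x = 1 := by
  by_contra hx1
  obtain ⟨a, ha, ha1, hne⟩ := four_exists (h.card j) x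
  exact h.notMem hx' hx1 ha ha1 hne (h.mem i j (Ne.symm hij) x hx hx1 ha)

theorem AA_comm {i j : ι} (hl : ∃ l, l ≠ i ∧ l ≠ j) {t t' : G} (ht : AA V i j t) (ht' : AA V i j t') :
    t * t' = t' * t := by
  obtain ⟨l, h1, h2⟩ := hl
  obtain ⟨s, hs, hs1, -⟩ := four_exists (h.card l) 1
  have h3 := h.c2t l s hs hs1 (ht.2 l h1 h2 s hs hs1)
  exact mem_centralizer_iff.1 (ht'.2 l h1 h2 s hs hs1) t h3

/-- **The core lemma** in `C_G(o)`, `o ∈ V i#`, centre `a ∈ V j#`. -/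
theorem coreV [Finite G] {i j : ι} (hij : i ≠ j) {o a b : G} (ho : o ∈ V i) (ho1 : o ≠ 1) (ha : a ∈ V j)
    (ha1 : a ≠ 1) (hbV : ∀ l, ∀ x ∈ V l, b * x * b⁻¹ = x)
    (hb : ∀ n ∈ N o, b * n * b⁻¹ = n ∨ b * n * b⁻¹ = n * a ∨ b * n * b⁻¹ = n * o ∨ b * n * b⁻¹ = n * a * o)
    (hne : ∃ n ∈ N o, b * n * b⁻¹ ≠ n) :
    ∃ g ∈ cz o, (∀ l, l ≠ i → l ≠ j → ∀ s ∈ V l, g * s * g⁻¹ = s) ∧ b * (g * a * g⁻¹) * b⁻¹ ≠ g * a * g⁻¹ ∧
      b * (g * b * g⁻¹) ≠ g * b * g⁻¹ * b := by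
  have hbo : b ∈ cz o := by
    rw [mem_cz]
    have h1 := hbV i o ho
    calc b * o = b * o * b⁻¹ * b := by group
      _ = o * b := by rw [h1]
  obtain ⟨g, hg, h1, h2, h3, h4⟩ := (h.red i o ho ho1).core
    (fun x hx => (mem_Uu.1 (h.leN i o ho ho1 hx)).2.1) (h.norN i o ho ho1) (h.memN i o ho ho1)
    (fun c hc => cz_conj hc) (h.VN i j (Ne.symm hij) o ho ho1 ha) ha1
    (fun e => ha1 (h.disj hij (e ▸ ho) ha)) hbo hb (hbV j a ha) hne
  refine ⟨g, hg, ?_, h1, h2⟩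
  obtain ⟨a₁, ha₁, ha₁1, hne₁⟩ := four_exists (h.card j) a
  -- the point `a'` fixed by `g`
  obtain ⟨a', ha', ha1', hne', hga'⟩ : ∃ a' ∈ V j, a' ≠ 1 ∧ a' ≠ a ∧ g * a' * g⁻¹ = a' := by
    rcases h3 a₁ (h.VN i j (Ne.symm hij) o ho ho1 ha₁) (hbV j a₁ ha₁) with e | e
    · exact ⟨a₁, ha₁, ha₁1, hne₁.symm, e⟩
    · refine ⟨a₁ * a, mul_mem ha₁ ha, fun e1 => hne₁ ?_, fun e1 => ha₁1 (mul_eq_right.1 e1), e⟩
      rw [eq_inv_of_mul_eq_one_right e1, h.inv ha₁]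
  have hgz : g ∈ cz a' := by
    rw [mem_cz]
    calc g * a' = g * a' * g⁻¹ * g := by group
      _ = a' * g := by rw [hga']
  intro l hli hlj s hs
  refine h4 (Uu a') (h.mem j i hij a' ha' ha1' ho) (h.notMem ha' ha1' ha ha1 hne') (fun z hz => ?_) s
    (h.mem j l hlj a' ha' ha1' hs) (h.VN i l hli o ho ho1 hs) (hbV l s hs)
  have h5 := conj_Uu (g := g) hz
  rwa [cz_conj hgz] at h5

/-- `C_{U_r}(N_p') ≤ O₂(C_G(p'))`. -/
theorem mem_o2_of_cent {i j : ι} (hij : i ≠ j) {p r t : G} (hp : p ∈ V i) (hp1 : p ≠ 1) (hr : r ∈ V j)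
    (hr1 : r ≠ 1) (ht : t ∈ Uu r) (htc : ∀ n ∈ N p, t * n * t⁻¹ = n) : t ∈ o2 (cz p) := by
  set F : Subgroup G := centralizer (N p : Set G) ⊓ cz p with hF
  have hrN : r ∈ N p := h.VN i j (Ne.symm hij) p hp hp1 hr
  have hFr : F ≤ cz r := fun x hx => mem_cz.2 (mem_centralizer_iff.1 hx.1 r hrN).symm
  have hnN : cz p ≤ normalizer (N p : Set G) := by
    intro c hc
    rw [mem_normalizer_iff]
    intro x
    refine ⟨fun hx => h.norN i p hp hp1 c hc x hx, fun hx => ?_⟩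
    have h1 := h.norN i p hp hp1 _ (inv_mem hc) _ hx
    have e : c⁻¹ * (c * x * c⁻¹) * c⁻¹⁻¹ = x := by group
    rwa [e] at h1
  have hnU : F ≤ normalizer (Uu r : Set G) := by
    intro c hc
    rw [mem_normalizer_iff_cj]
    refine le_antisymm (fun x hx => ?_) (fun x hx => ?_)
    · rw [mem_cj] at hx
      have h1 := conj_Uu (g := c) hx
      rw [cz_conj (hFr hc)] at h1
      have e : c * (c⁻¹ * x * c) * c⁻¹ = x := by group
      rwa [e] at h1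
    · rw [mem_cj]
      have h1 := conj_Uu (g := c⁻¹) hx
      rw [cz_conj (inv_mem (hFr hc))] at h1
      rwa [inv_inv] at h1
  have h1 : Uu r ⊓ F ≤ o2 F := by
    refine Cfsg.Agent.ZN.le_o2 inf_le_right ((isPGroup_Uu r).to_le inf_le_left) ?_
    intro x hx
    rw [mem_normalizer_iff_cj, cj_inf, cj_eq_of_mem_normalizer (hnU hx),
      cj_eq_of_mem_normalizer (le_normalizer hx)]
  have h2 : cz p ≤ normalizer (F : Set G) := by
    intro x hx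
    rw [mem_normalizer_iff_cj, hF, cj_inf, cj_centralizer, cj_eq_of_mem_normalizer (hnN hx),
      cj_eq_of_mem_normalizer (le_normalizer hx)]
  have h3 : o2 F ≤ o2 (cz p) := by
    refine Cfsg.Agent.ZN.le_o2 ((o2_le F).trans inf_le_right) (isPGroup_o2 F) ?_
    exact h2.trans (normalizer_le_normalizer_o2 F)
  refine h3 (h1 ⟨ht, ?_, ?_⟩)
  · refine mem_centralizer_iff.2 ?_
    intro n hn
    have e := htc n hn
    calc n * t = t * n * t⁻¹ * t := by rw [e]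
      _ = t * n := by group
  · refine mem_cz.2 ?_
    have e := h.Uu_comm hr hr1 ht hp
    calc t * p = t * p * t⁻¹ * t := by group
      _ = p * t := by rw [e]

theorem mem_cz_of {n x : G} (hn : n * x * n⁻¹ = x) : n ∈ cz x := by
  rw [mem_cz]
  calc n * x = n * x * n⁻¹ * n := by group
    _ = x * n := by rw [hn]

theorem self_mem_Uu {i : ι} {p : G} (hp : p ∈ V i) (hp1 : p ≠ 1) : p ∈ Uu p := by
  rw [mem_Uu]
  exact ⟨h.self i p hp hp1 hp, h.sq i p hp, fun y hy => mem_cz.1 (o2_le _ hy)⟩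

/-- Elements of `V j` lie in `A_ij`. -/
theorem AA_of_mem {i j : ι} {r : G} (hr : r ∈ V j) : AA V i j r :=
  ⟨h.sq j r hr, fun l _ hlj s hs hs1 => Uu_le_cent s (h.mem l j (Ne.symm hlj) s hs hs1 hr)⟩

/-- The commutator of `t ∈ A_ij` and of an element centralising the blocks. -/
theorem comm_cent {l : ι} {s t n : G} (hs : s ∈ V l) (ht : t ∈ centralizer (o2 (cz s) : Set G))
    (hn : ∀ l, ∀ x ∈ V l, n * x * n⁻¹ = x) : t * n * t⁻¹ * n⁻¹ ∈ centralizer (o2 (cz s) : Set G) := by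
  have e : t * n * t⁻¹ * n⁻¹ = t * (n * t⁻¹ * n⁻¹) := by group
  rw [e]
  refine mul_mem ht ?_
  have h1 := conj_cent (g := n) (inv_mem ht)
  rwa [hn l s hs] at h1

theorem comm_Uu {l : ι} {s t n : G} (hs : s ∈ V l) (ht : t ∈ Uu s)
    (hn : ∀ l, ∀ x ∈ V l, n * x * n⁻¹ = x) : t * n * t⁻¹ * n⁻¹ ∈ Uu s := by
  have e : t * n * t⁻¹ * n⁻¹ = t * (n * t⁻¹ * n⁻¹) := by group
  rw [e]
  refine mul_mem ht ?_
  have h1 := conj_Uu (g := n) (inv_mem ht)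
  rwa [hn l s hs] at h1

theorem comm_Uu' {l : ι} {s t n : G} (hs : s ∈ V l) (hn : n ∈ Uu s)
    (ht : ∀ l, ∀ x ∈ V l, t * x * t⁻¹ = x) : t * n * t⁻¹ * n⁻¹ ∈ Uu s := by
  refine mul_mem ?_ (inv_mem hn)
  have h1 := conj_Uu (g := t) hn
  rwa [ht l s hs] at h1

/-- **(3)** `A_ij ∩ U_p ∩ U_r = {1, p, r, pr}`. -/
theorem three [Finite G] {i j : ι} (hij : i ≠ j) (hl : ∃ l, l ≠ i ∧ l ≠ j) {p r t : G} (hp : p ∈ V i)
    (hp1 : p ≠ 1) (hr : r ∈ V j) (hr1 : r ≠ 1) (hA : AA V i j t) (htp : t ∈ Uu p) (htr : t ∈ Uu r) :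
    t = 1 ∨ t = p ∨ t = r ∨ t = p * r := by
  obtain ⟨p', hp', hp1', hne⟩ := four_exists (h.card i) p
  have htV : ∀ l, ∀ x ∈ V l, t * x * t⁻¹ = x := fun l x hx => h.Uu_comm hp hp1 htp hx
  by_cases hc : ∀ n ∈ N p', t * n * t⁻¹ = n
  · have htq := h.mem_o2_of_cent hij hp' hp1' hr hr1 htr hc
    obtain ⟨w, hw, hw2, hw3⟩ := h.mov i p' hp' hp1'
    have hwp : w * p * w⁻¹ = p' * p := h.swap hp' hp1' hp hp1 hne.symm hw hw3
    have hpp1 : p' * p ≠ 1 := fun e => hne (by rw [eq_inv_of_mul_eq_one_right e, h.inv hp'])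
    have hppne : p ≠ p' * p := fun e => hp1' (mul_eq_right.1 e.symm)
    have key : ∀ u, AA V i j u → u ∈ Uu p → u ∈ Uu r → w * u * w⁻¹ = u → u = 1 ∨ u = r := by
      intro u hA hup hur huw
      have h1 := Uu_le_cent p hup
      have h2 : u ∈ centralizer (o2 (cz (p' * p)) : Set G) := by
        have h3 := conj_cent (g := w) h1
        rwa [huw, hwp] at h3
      refine h.one j r hr hr1 u hA.1 (fun l hlj s hs hs1 => ?_) (Uu_le_cent r hur)
      by_cases hli : l = i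
      · subst hli
        exact h.gen hp hp1 (mul_mem hp' hp) hpp1 hppne h1 h2 hs hs1
      · exact hA.2 l hli hlj s hs hs1
    rcases Kk_conj (h.sq i p' hp') hw htq with e | e
    · rcases key t hA htp htr e with h1 | h1
      · exact Or.inl h1
      · exact Or.inr (Or.inr (Or.inl h1))
    · have htp' : t * p' = p' * t := mem_cz.1 (mem_cz_of (h := h) (htV i p' hp'))
      have htpc : t * p = p * t := mem_cz.1 (mem_cz_of (h := h) (htV i p hp))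
      have e1 : w * (t * p) * w⁻¹ = t * p := by
        calc w * (t * p) * w⁻¹ = (w * t * w⁻¹) * (w * p * w⁻¹) := by group
          _ = p' * t * (p' * p) := by rw [e, hwp]
          _ = p' * (t * p') * p := by group
          _ = (p' * p') * (t * p) := by rw [htp']; group
          _ = t * p := by rw [h.sq i p' hp', one_mul]
      have hA' : AA V i j (t * p) := by
        refine ⟨?_, fun l hli hlj s hs hs1 => mul_mem (hA.2 l hli hlj s hs hs1) ?_⟩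
        · calc t * p * (t * p) = t * (p * t) * p := by group
            _ = (t * t) * (p * p) := by rw [← htpc]; group
            _ = 1 := by rw [hA.1, h.sq i p hp, one_mul]
        · exact Uu_le_cent s (h.mem l i (Ne.symm hli) s hs hs1 hp)
      have hpr : t = t * p * p := by rw [mul_assoc, h.sq i p hp, mul_one]
      rcases key (t * p) hA' (mul_mem htp (h.self_mem_Uu hp hp1))
        (mul_mem htr (h.mem j i hij r hr hr1 hp)) e1 with h1 | h1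
      · right; left
        rw [hpr, h1, one_mul]
      · right; right; right
        rw [hpr, h1, h.comm hr hp]
  · exfalso
    push Not at hc
    have hcom : ∀ n ∈ N p', t * n * t⁻¹ * n⁻¹ = 1 ∨ t * n * t⁻¹ * n⁻¹ = r := by
      intro n hn
      have hnU := h.leN i p' hp' hp1' hn
      have hnV : ∀ l, ∀ x ∈ V l, n * x * n⁻¹ = x := fun l x hx => h.Uu_comm hp' hp1' hnU hx
      have h1 := h.comm_Uu hr htr hnV
      have h2 := h.comm_Uu hp htp hnV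
      have h3 := h.comm_Uu' hp' hnU htV
      refine h.one j r hr hr1 _ (mem_Uu.1 h1).2.1 (fun l hlj s hs hs1 => ?_) (Uu_le_cent r h1)
      by_cases hli : l = i
      · subst hli
        exact h.gen hp hp1 hp' hp1' hne (Uu_le_cent p h2) (Uu_le_cent p' h3) hs hs1
      · exact h.comm_cent hs (hA.2 l hli hlj s hs hs1) hnV
    obtain ⟨g, hg, hgV, h1, h2⟩ := h.coreV hij hp' hp1' hr hr1 htV (fun n hn => by
      have hnU := h.leN i p' hp' hp1' hn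
      have hnr : n * r = r * n := mem_cz.1 (mem_cz_of (h := h) (h.Uu_comm hp' hp1' hnU hr))
      rcases hcom n hn with e | e
      · exact Or.inl (mul_inv_eq_one.1 e)
      · exact Or.inr (Or.inl (by rw [mul_inv_eq_iff_eq_mul.1 e, hnr]))) hc
    exact h2 (h.AA_comm hl hA (hA.conj hgV))

/-- **(4)** `A_ij ∩ U_p` centralises `N_r`. -/
theorem four [Finite G] {i j : ι} (hij : i ≠ j) (hl : ∃ l, l ≠ i ∧ l ≠ j) {p r b : G} (hp : p ∈ V i)
    (hp1 : p ≠ 1) (hr : r ∈ V j) (hr1 : r ≠ 1) (hA : AA V i j b) (hbp : b ∈ Uu p) :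
    ∀ n ∈ N r, b * n * b⁻¹ = n := by
  by_contra hc
  push Not at hc
  have hbV : ∀ l, ∀ x ∈ V l, b * x * b⁻¹ = x := fun l x hx => h.Uu_comm hp hp1 hbp hx
  obtain ⟨g, hg, hgV, h1, h2⟩ := h.coreV (Ne.symm hij) hr hr1 hp hp1 hbV (fun n hn => by
    have hnU := h.leN j r hr hr1 hn
    have hnV : ∀ l, ∀ x ∈ V l, n * x * n⁻¹ = x := fun l x hx => h.Uu_comm hr hr1 hnU hx
    have hnr : n * r = r * n := mem_cz.1 (mem_cz_of (h := h) (hnV j r hr))
    have hnp : n * p = p * n := mem_cz.1 (mem_cz_of (h := h) (hnV i p hp))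
    have h1 := h.comm_Uu hp hbp hnV
    have h2 := h.comm_Uu' hr hnU hbV
    have h3 := h.three hij hl hp hp1 hr hr1 ⟨(mem_Uu.1 h1).2.1, fun l hli hlj s hs hs1 =>
      h.comm_cent hs (hA.2 l hli hlj s hs hs1) hnV⟩ h1 h2
    rcases h3 with e | e | e | e
    · exact Or.inl (mul_inv_eq_one.1 e)
    · exact Or.inr (Or.inl (by rw [mul_inv_eq_iff_eq_mul.1 e, hnp]))
    · exact Or.inr (Or.inr (Or.inl (by rw [mul_inv_eq_iff_eq_mul.1 e, hnr])))
    · refine Or.inr (Or.inr (Or.inr ?_))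
      rw [mul_inv_eq_iff_eq_mul.1 e, mul_assoc, ← hnr, ← mul_assoc, ← hnp]) hc
  exact h2 (h.AA_comm hl hA (hA.symm.conj hgV).symm)

/-- **(5)** `[N_p, N_r] ≤ ⟨p, r⟩` implies `[N_p, N_r] = 1`. -/
theorem five [Finite G] {i j : ι} (hij : i ≠ j) (hl : ∃ l, l ≠ i ∧ l ≠ j) {p r : G} (hp : p ∈ V i)
    (hp1 : p ≠ 1) (hr : r ∈ V j) (hr1 : r ≠ 1)
    (hc : ∀ n ∈ N p, ∀ m ∈ N r, m * n * m⁻¹ * n⁻¹ = 1 ∨ m * n * m⁻¹ * n⁻¹ = p ∨ m * n * m⁻¹ * n⁻¹ = r ∨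
      m * n * m⁻¹ * n⁻¹ = p * r) : ∀ n ∈ N p, ∀ m ∈ N r, m * n = n * m := by
  intro n hn b hb
  have hbU := h.leN j r hr hr1 hb
  have hbV : ∀ l, ∀ x ∈ V l, b * x * b⁻¹ = x := fun l x hx => h.Uu_comm hr hr1 hbU hx
  by_contra hne
  have hne' : b * n * b⁻¹ ≠ n := fun e => hne (by
    calc b * n = b * n * b⁻¹ * b := by group
      _ = n * b := by rw [e])
  obtain ⟨g, hg, hgV, h1, -⟩ := h.coreV hij hp hp1 hr hr1 hbV (fun n hn => by
    have hnU := h.leN i p hp hp1 hn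
    have hnV : ∀ l, ∀ x ∈ V l, n * x * n⁻¹ = x := fun l x hx => h.Uu_comm hp hp1 hnU hx
    have hnr : n * r = r * n := mem_cz.1 (mem_cz_of (h := h) (hnV j r hr))
    have hnp : n * p = p * n := mem_cz.1 (mem_cz_of (h := h) (hnV i p hp))
    rcases hc n hn b hb with e | e | e | e
    · exact Or.inl (mul_inv_eq_one.1 e)
    · exact Or.inr (Or.inr (Or.inl (by rw [mul_inv_eq_iff_eq_mul.1 e, hnp])))
    · exact Or.inr (Or.inl (by rw [mul_inv_eq_iff_eq_mul.1 e, hnr]))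
    · refine Or.inr (Or.inr (Or.inr ?_))
      rw [mul_inv_eq_iff_eq_mul.1 e, h.comm hp hr, mul_assoc, ← hnp, ← mul_assoc, ← hnr]) ⟨n, hn, hne'⟩
  apply h1
  have h3 : g * r * g⁻¹ ∈ N p := h.norN i p hp hp1 g hg r (h.VN i j (Ne.symm hij) p hp hp1 hr)
  have h4 := h.four hij hl hp hp1 hr hr1 ((h.AA_of_mem hr).conj hgV) (h.leN i p hp hp1 h3) b hb
  have h5 : g * r * g⁻¹ * b = b * (g * r * g⁻¹) := by
    calc g * r * g⁻¹ * b = (g * r * g⁻¹) * b * (g * r * g⁻¹)⁻¹ * (g * r * g⁻¹) := by group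
      _ = b * (g * r * g⁻¹) := by rw [h4]
  rw [← h5, mul_inv_cancel_right]

end Dat

end Cfsg.Agent.Omega.IId.Red
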